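import Cfsg.Agent.Lib.UThreeCent.Main
import Cfsg.Agent.Lib.Classical.GUQuotient
import Cfsg.Agent.Lib.Classical.UnitaryConj
import Cfsg.Prelude.Def_LieClassical

/-!
# The centraliser of an involution in `PGU₃(2^m)`
-/

set_option autoImplicit false
set_option linter.unusedSectionVars false

namespace CfsgLib.UThreeCent

open Matrix Cfsg CfsgLib.Classical.Herm CfsgLib.Classical.URegGen
open CfsgLib.ClassicalAut (Unitary.Conj Unitary.herm_apply)
open CfsgLib.Classical.URoot (Par pmul pinv pone)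

variable {F : Type*} [Field F] [Finite F] [CharP F 2] {q : ℕ} {K : Unitary.Conj F q}

/-- The action on vectors. -/
def gapp (g : GU 3 F q) (x : Fin 3 → F) : Fin 3 → F :=
  ((g : GL (Fin 3) F) : Matrix (Fin 3) (Fin 3) F) *ᵥ x

theorem gapp_mul (g h : GU 3 F q) (x : Fin 3 → F) : gapp (g * h) x = gapp g (gapp h x) := by
  simp only [gapp, Subgroup.coe_mul, Units.val_mul, mulVec_mulVec]

theorem gapp_one (x : Fin 3 → F) : gapp (1 : GU 3 F q) x = x := by simp [gapp]

theorem gapp_add (g : GU 3 F q) (x y : Fin 3 → F) : gapp g (x + y) = gapp g x + gapp g y :=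
  mulVec_add _ _ _

theorem gapp_sub (g : GU 3 F q) (x y : Fin 3 → F) : gapp g (x - y) = gapp g x - gapp g y :=
  mulVec_sub _ _ _

theorem gapp_smul (g : GU 3 F q) (c : F) (x : Fin 3 → F) : gapp g (c • x) = c • gapp g x :=
  mulVec_smul _ _ _

theorem gapp_herm (g : GU 3 F q) (x y : Fin 3 → F) :
    hermForm 3 F q (gapp g x) (gapp g y) = hermForm 3 F q x y := g.2 x y

theorem gapp_ext {g h : GU 3 F q} (e : ∀ x, gapp g x = gapp h x) : g = h :=
  Subtype.ext (Units.ext (Matrix.ext_of_mulVec_single fun i => e _))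

variable (K) (B : HB 1 3 q F)

include K

theorem gapp_ext₁ {g h : GU 3 F q} (he : gapp g (B.E 0) = gapp h (B.E 0))
    (hf : gapp g (B.Fv 0) = gapp h (B.Fv 0)) (hz : gapp g B.z = gapp h B.z) : g = h :=
  gapp_ext fun x => by
    rw [expand₁ K B x]
    simp only [gapp_add, gapp_smul, he, hf, hz]

/-- A member with prescribed images of the standard frame. -/
theorem exists_gmk {e' f' z' : Fin 3 → F}
    (hee : hermForm 3 F q e' e' = 0) (hff : hermForm 3 F q f' f' = 0)
    (hfe : hermForm 3 F q f' e' = 1) (hze : hermForm 3 F q z' e' = 0)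
    (hzf : hermForm 3 F q z' f' = 0) (hzz : hermForm 3 F q z' z' = 1) :
    ∃ g : GU 3 F q, gapp g (B.E 0) = e' ∧ gapp g (B.Fv 0) = f' ∧ gapp g B.z = z' := by
  classical
  let L : (Fin 3 → F) →ₗ[F] (Fin 3 → F) :=
    { toFun := fun x => hermForm 3 F q x (B.Fv 0) • e' + hermForm 3 F q x (B.E 0) • f' +
        hermForm 3 F q x B.z • z'
      map_add' := fun x y => by simp only [h_add_left K]; module
      map_smul' := fun c x => by simp only [h_smul_left K, RingHom.id_apply]; module }
  have hL : ∀ x y, hermForm 3 F q (L x) (L y) = hermForm 3 F q x y := by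
    intro x y
    conv_rhs => rw [expand₁ K B x, expand₁ K B y]
    show hermForm 3 F q (_ + _ + _) (_ + _ + _) = _
    simp only [h_add_left K, h_add_right K, h_smul_left K, h_smul_right K, hee, hff, hfe, hze, hzf,
      hzz, h_swap K f' e', h_swap K z' e', h_swap K z' f', B.ee, B.ff, B.zz, B.ze, B.zf,
      h_swap K (B.Fv 0) (B.E 0), B.fe 0 0 one_pos one_pos, if_pos, h_swap K B.z (B.E 0),
      h_swap K B.z (B.Fv 0), map_zero, map_one]
  have hinj : Function.Injective L := by
    refine (injective_iff_map_eq_zero L).mpr fun x hx => ?_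
    have h0 : ∀ y, hermForm 3 F q x y = 0 := fun y => by rw [← hL, hx, h_zero_left K]
    rw [expand₁ K B x, h0, h0, h0]
    simp
  set M := LinearMap.toMatrix' L
  have hM : ∀ x, M *ᵥ x = L x := fun x => LinearMap.toMatrix'_mulVec L x
  have hu : IsUnit M := Matrix.mulVec_injective_iff_isUnit.mp (by
    intro x y h
    exact hinj (by rw [← hM, ← hM]; exact h))
  obtain ⟨U, hU⟩ := hu
  refine ⟨⟨U, fun u v => ?_⟩, ?_, ?_, ?_⟩
  · show hermForm 3 F q ((U : Matrix (Fin 3) (Fin 3) F) *ᵥ u) _ = _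
    rw [Units.coeHom_apply, hU, hM, hM, hL]
  all_goals
    show (U : Matrix (Fin 3) (Fin 3) F) *ᵥ _ = _
    rw [hU, hM]
    show _ • e' + _ • f' + _ • z' = _
  · rw [B.ee, B.ef K one_pos one_pos, if_pos rfl, B.ez K]; module
  · rw [B.ff, B.fe 0 0 one_pos one_pos, if_pos rfl, B.fz K]; module
  · rw [B.zz, B.ze, B.zf]; module

theorem hE : B.E 0 ≠ 0 := fun h => by
  have := B.fe 0 0 one_pos one_pos
  rw [h, h_zero_right K, if_pos rfl] at this
  exact zero_ne_one this

/-- The elation. -/
theorem exists_el (x : Par K) : ∃ g : GU 3 F q, gapp g (B.E 0) = B.E 0 ∧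
    gapp g (B.Fv 0) = B.Fv 0 - K.bar x.1.1 • B.z + x.1.2 • B.E 0 ∧
    gapp g B.z = B.z + x.1.1 • B.E 0 := by
  refine exists_gmk K B (B.ee 0 0) ?_ ?_ ?_ ?_ ?_ <;>
    simp only [h_add_left K, h_add_right K, h_sub_left K, h_sub_right K, h_smul_left K, h_smul_right K,
      B.ee, B.ff, B.zz, B.ze, B.zf, B.ez K, B.fz K, B.fe 0 0 one_pos one_pos,
      B.ef K one_pos one_pos, if_pos, K.bar_bar]
  · linear_combination x.2
  all_goals ring

/-- The homology. -/
theorem exists_hom {c : F} (hc : Mu K c) : ∃ g : GU 3 F q, gapp g (B.E 0) = B.E 0 ∧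
    gapp g (B.Fv 0) = B.Fv 0 ∧ gapp g B.z = K.bar c • B.z := by
  refine exists_gmk K B (B.ee 0 0) (B.ff 0 0) ?_ ?_ ?_ ?_ <;>
    simp only [h_smul_left K, h_smul_right K, B.ze, B.zf, B.zz, B.fe 0 0 one_pos one_pos, if_pos,
      K.bar_bar, mul_zero, mul_one]
  rw [mul_comm]; exact hc

/-- The torus element. -/
theorem exists_dil {s : F} (hs : K.bar s = s) (hs0 : s ≠ 0) : ∃ g : GU 3 F q,
    gapp g (B.E 0) = s • B.E 0 ∧ gapp g (B.Fv 0) = s⁻¹ • B.Fv 0 ∧ gapp g B.z = B.z := by
  refine exists_gmk K B ?_ ?_ ?_ ?_ ?_ B.zz <;>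
    simp only [h_smul_left K, h_smul_right K, B.ee, B.ff, B.ze, B.zf, B.fe 0 0 one_pos one_pos,
      if_pos, mul_zero, mul_one, hs]
  rw [inv_mul_cancel₀ hs0]

/-- The reflection. -/
theorem exists_flip : ∃ g : GU 3 F q,
    gapp g (B.E 0) = B.Fv 0 ∧ gapp g (B.Fv 0) = B.E 0 ∧ gapp g B.z = B.z :=
  exists_gmk K B (B.ff 0 0) (B.ee 0 0) (by rw [B.ef K one_pos one_pos, if_pos rfl]) (B.zf 0) (B.ze 0)
    B.zz

theorem scalar_of_center {g : GU 3 F q} (h : g ∈ Subgroup.center (GU 3 F q)) :
    ∃ l : F, ∀ x, gapp g x = l • x := by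
  obtain ⟨l, hl⟩ := gu_center_scalar K (by norm_num) g h
  exact ⟨l, fun x => by rw [gapp, hl, smul_mulVec, one_mulVec]⟩

theorem exists_scalar {l : F} (hl : Mu K l) :
    ∃ g : GU 3 F q, g ∈ Subgroup.center (GU 3 F q) ∧ ∀ x, gapp g x = l • x := by
  obtain ⟨g, hg⟩ : ∃ g : GU 3 F q, ∀ x, gapp g x = l • x := by
    obtain ⟨g, hg⟩ := diag_mem K (fun _ : Fin 3 => Units.mk0 l hl.ne) fun _ => hl
    refine ⟨g, fun x => ?_⟩
    rw [gapp, hg]
    funext i
    simp [Matrix.mulVec_diagonal]
  refine ⟨g, Subgroup.mem_center_iff.mpr fun h => gapp_ext fun x => ?_, hg⟩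
  rw [gapp_mul, gapp_mul, hg, hg, gapp_smul]

theorem odd_index {P : Subgroup (GU 3 F q ⧸ Subgroup.center (GU 3 F q))} (hP : Nat.card P = q ^ 3) :
    ¬ 2 ∣ P.index := by
  intro hd
  have h1 := card_GU K (n := 3)
  norm_num [Finset.prod_range_succ, Nat.even_iff, -Nat.card_eq_fintype_card] at h1
  have h2 : Nat.card (GU 3 F q) = Nat.card (Subgroup.center (GU 3 F q)) * (q ^ 3 * P.index) := by
    rw [← hP, Subgroup.card_mul_index, Subgroup.card_eq_card_quotient_mul_card_subgroup
      (Subgroup.center (GU 3 F q)), mul_comm]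
  have hev := q_even K
  have hq := K.two_le
  have hodd : Odd ((q + 1) * (q ^ 2 - 1) * (q ^ 3 + 1)) :=
    ((q_succ_odd K).mul (odd_sq_sub K)).mul (hev.pow_of_ne_zero three_ne_zero).add_one
  refine hodd.not_two_dvd_nat (hd.trans (dvd_of_mul_left_eq (Nat.card (Subgroup.center (GU 3 F q))) ?_))
  refine Nat.eq_of_mul_eq_mul_left (show 0 < q ^ 3 by positivity) ?_
  rw [← h1, h2]
  ring

/-- The structure of `PGU₃(q)`. -/
theorem exists_loc_model (hq : 3 ≤ q) :
    ∃ (ψ : Par K → GU 3 F q ⧸ Subgroup.center (GU 3 F q))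
      (τ : F → GU 3 F q ⧸ Subgroup.center (GU 3 F q)), Loc K ψ τ := by
  classical
  obtain ⟨B⟩ : Nonempty (HB 1 3 q F) := exists_hb K 1
  have hE0 := hE K B
  choose φ p1 p2 p3 using fun x : Par K => exists_el K B x
  choose! h h1 h2 h3 using fun c (hc : Mu K c) => exists_hom K B hc
  set mk := QuotientGroup.mk' (Subgroup.center (GU 3 F q)) with hmk
  have hmkeq : ∀ {a b : GU 3 F q}, mk a = mk b → ∃ l : F, ∀ x, gapp b x = l • gapp a x := by
    intro a b hab
    obtain ⟨l, hl⟩ := scalar_of_center K (QuotientGroup.eq.mp hab)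
    refine ⟨l, fun x => ?_⟩
    have := congrArg (gapp a) (hl x)
    rwa [← gapp_mul, mul_inv_cancel_left, gapp_smul] at this
  have hmul : ∀ x y, φ x * φ y = φ (pmul K x y) := fun x y => by
    refine gapp_ext₁ K B ?_ ?_ ?_ <;>
      simp only [gapp_mul, p1, p2, p3, gapp_add, gapp_sub, gapp_smul, pmul_fst, pmul_snd, map_add,
        CharTwo.sub_eq_add] <;> match_scalars <;> ring
  have hhmul : ∀ c d, Mu K c → Mu K d → h c * h d = h (c * d) := fun c d hc hd => by
    refine gapp_ext₁ K B ?_ ?_ ?_ <;>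
      simp only [gapp_mul, h1 c hc, h1 d hd, h2 c hc, h2 d hd, h3 c hc, h3 d hd, h1 _ (hc.mul hd),
        h2 _ (hc.mul hd), h3 _ (hc.mul hd), gapp_smul, map_mul]
    rw [smul_smul, mul_comm]
  have hconj : ∀ c, Mu K c → ∀ x, h c * φ x = φ (scl K c x) * h c := fun c hc x => by
    have hcc : c * K.bar c = 1 := hc
    refine gapp_ext₁ K B ?_ ?_ ?_ <;>
      simp only [gapp_mul, h1 c hc, h2 c hc, h3 c hc, p1, p2, p3, gapp_add, gapp_sub, gapp_smul,
        scl_fst, scl_snd, map_mul] <;> match_scalars <;>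
      first | ring1 | linear_combination (-x.1.2) * hcc | linear_combination (-x.1.1) * hcc |
        linear_combination x.1.2 * hcc | linear_combination x.1.1 * hcc
  have hone : φ (pone K) = 1 := gapp_ext₁ K B (by simp [p1, gapp_one]) (by simp [p2, gapp_one])
    (by simp [p3, gapp_one])
  have hsep : ∀ {c : F} {x : Par K}, Mu K c → mk (h c) = mk (φ x) → c = 1 ∧ x = pone K := by
    intro c x hc e
    obtain ⟨l, hl⟩ := hmkeq e
    have e1 := hl (B.E 0)
    rw [p1, h1 c hc] at e1
    have hl1 : l = 1 := smul_left_injective F hE0 (e1.symm.trans (one_smul F _).symm)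
    subst hl1
    have e3 := congrArg (fun v => hermForm 3 F q v B.z) (hl B.z)
    have e4 := congrArg (fun v => hermForm 3 F q v (B.Fv 0)) (hl B.z)
    have e5 := congrArg (fun v => hermForm 3 F q v (B.Fv 0)) (hl (B.Fv 0))
    simp only [p2, p3, h2 c hc, h3 c hc, one_smul, h_add_left K, h_sub_left K, h_smul_left K, B.zz,
      B.zf, B.ff, B.ez K, B.ef K one_pos one_pos, if_pos, mul_zero, mul_one, add_zero, zero_add,
      sub_zero] at e3 e4 e5
    refine ⟨?_, par_ext e4 e5⟩
    rw [← K.bar_bar c, ← e3, map_one]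
  have hinjφ : ∀ {x : Par K}, mk (φ x) = 1 → x = pone K := fun {x} e => by
    have h10 : h 1 = 1 := gapp_ext₁ K B (by rw [h1 1 Mu.one, gapp_one])
      (by rw [h2 1 Mu.one, gapp_one]) (by rw [h3 1 Mu.one, map_one, one_smul, gapp_one])
    exact (hsep Mu.one (show mk (h 1) = mk (φ x) by rw [h10, map_one, e])).2
  have hz0 : hermForm 3 F q B.z B.z ≠ 0 := by rw [B.zz]; exact one_ne_zero
  have he2 : (φ (ez K) : GU 3 F q) * φ (ez K) = 1 := by
    rw [hmul, ← hone]
    exact congrArg φ (par_ext (by simp) (by simp [CharTwo.add_self_eq_zero]))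
  have heapp : ∀ x, gapp (φ (ez K)) x = x + hermForm 3 F q x (B.E 0) • B.E 0 := fun x => by
    conv_lhs => rw [expand₁ K B x]
    simp only [gapp_add, gapp_smul, p1, p2, p3, ez_fst, ez_snd, map_zero, zero_smul, sub_zero,
      add_zero, one_smul]
    conv_rhs => arg 1; rw [expand₁ K B x]
    module
  have hcent : ∀ g, g * mk (φ (ez K)) = mk (φ (ez K)) * g ↔
      ∃ x c, Mu K c ∧ g = mk (φ x) * mk (h c) := by
    intro g
    obtain ⟨g, rfl⟩ := QuotientGroup.mk'_surjective _ g
    constructor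
    · intro hg
      obtain ⟨l, hl⟩ := hmkeq (show mk (φ (ez K) * g) = mk (g * φ (ez K)) by
        rw [map_mul, map_mul, hg])
      have hgE : ∀ x, gapp g x + hermForm 3 F q x (B.E 0) • gapp g (B.E 0) =
          l • (gapp g x + hermForm 3 F q (gapp g x) (B.E 0) • B.E 0) := fun x => by
        have := hl x
        rwa [gapp_mul, gapp_mul, heapp, heapp, gapp_add, gapp_smul] at this
      have hl1 : l = 1 := by
        by_contra hne
        have hne' : (1 : F) - l ≠ 0 := sub_ne_zero.mpr (Ne.symm hne)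
        have a1 := hgE B.z
        rw [B.ze, zero_smul, add_zero] at a1
        have a2 : gapp g B.z = (l * hermForm 3 F q (gapp g B.z) (B.E 0) / (1 - l)) • B.E 0 := by
          have a3 : (1 - l) • gapp g B.z =
              (l * hermForm 3 F q (gapp g B.z) (B.E 0)) • B.E 0 := by
            linear_combination (norm := module) a1
          calc gapp g B.z = (1 - l)⁻¹ • ((1 - l) • gapp g B.z) := by
                rw [smul_smul, inv_mul_cancel₀ hne', one_smul]
            _ = _ := by rw [a3, smul_smul]; congr 1; ring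
        refine hz0 ?_
        rw [← gapp_herm g, a2, h_smul_left K, h_smul_right K, B.ee]
        ring
      subst hl1
      have b : ∀ x, hermForm 3 F q x (B.E 0) • gapp g (B.E 0) =
          hermForm 3 F q (gapp g x) (B.E 0) • B.E 0 := fun x => by
        have := hgE x
        rw [one_smul] at this
        exact add_left_cancel this
      set μ := hermForm 3 F q (gapp g (B.Fv 0)) (B.E 0) with hμ
      have bE : gapp g (B.E 0) = μ • B.E 0 := by
        have := b (B.Fv 0)
        rwa [B.fe 0 0 one_pos one_pos, if_pos rfl, one_smul] at this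
      have bz : hermForm 3 F q (gapp g B.z) (B.E 0) = 0 := by
        have := b B.z
        rw [B.ze, zero_smul, eq_comm, smul_eq_zero] at this
        exact this.resolve_right hE0
      have hμ1 : Mu K μ := by
        have := gapp_herm g (B.Fv 0) (B.E 0)
        rw [bE, h_smul_right K, B.fe 0 0 one_pos one_pos, if_pos rfl, ← hμ] at this
        show μ * K.bar μ = 1
        rw [mul_comm]; exact this
      obtain ⟨s, hsc, hs⟩ := exists_scalar K hμ1.bar
      set g' := s * g with hg'
      have hgg : mk g' = mk g := by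
        rw [hg', map_mul, show mk s = 1 from (QuotientGroup.eq_one_iff s).mpr hsc, one_mul]
      have hμμ : K.bar μ * μ = 1 := by rw [mul_comm]; exact hμ1
      have gE : gapp g' (B.E 0) = B.E 0 := by
        rw [hg', gapp_mul, hs, bE, smul_smul, hμμ, one_smul]
      have gz : hermForm 3 F q (gapp g' B.z) (B.E 0) = 0 := by
        rw [hg', gapp_mul, hs, h_smul_left K, bz, mul_zero]
      set α := hermForm 3 F q (gapp g' B.z) B.z
      set β := hermForm 3 F q (gapp g' B.z) (B.Fv 0)
      set ε := hermForm 3 F q (gapp g' (B.Fv 0)) B.z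
      set δ := hermForm 3 F q (gapp g' (B.Fv 0)) (B.Fv 0)
      have hFE : hermForm 3 F q (gapp g' (B.Fv 0)) (B.E 0) = 1 := by
        conv_lhs => arg 5; rw [← gE]
        rw [gapp_herm, B.fe 0 0 one_pos one_pos, if_pos rfl]
      have dz : gapp g' B.z = β • B.E 0 + α • B.z := by
        conv_lhs => rw [expand₁ K B (gapp g' B.z), gz]
        module
      have df : gapp g' (B.Fv 0) = δ • B.E 0 + B.Fv 0 + ε • B.z := by
        conv_lhs => rw [expand₁ K B (gapp g' (B.Fv 0)), hFE]
        module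
      have c1 := gapp_herm g' B.z B.z
      have c2 := gapp_herm g' B.z (B.Fv 0)
      have c3 := gapp_herm g' (B.Fv 0) (B.Fv 0)
      simp only [dz, df, h_add_left K, h_add_right K, h_smul_left K, h_smul_right K, B.ee, B.ff,
        B.zz, B.ze, B.zf, B.ez K, B.fz K, B.fe 0 0 one_pos one_pos, B.ef K one_pos one_pos, if_pos,
        mul_zero, mul_one, add_zero, zero_add, zero_mul] at c1 c2 c3
      have hc : Mu K (K.bar α) := by
        show K.bar α * K.bar (K.bar α) = 1
        rw [K.bar_bar]; linear_combination c1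
      have hab : K.bar α * β * K.bar (K.bar α * β) + δ + K.bar δ = 0 := by
        have hεb : ε = -(α * K.bar β) := by
          have c2' := congrArg K.bar c2
          simp only [map_add, map_mul, K.bar_bar, map_zero] at c2'
          linear_combination α * c2' - ε * c1
        rw [hεb] at c3
        simp only [map_neg, map_mul, K.bar_bar] at c3
        rw [map_mul, K.bar_bar]
        linear_combination c3
      refine ⟨⟨(K.bar α * β, δ), hab⟩, K.bar α, hc, ?_⟩
      rw [← hgg, ← map_mul]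
      congr 1
      refine gapp_ext₁ K B ?_ ?_ ?_
      · rw [gE, gapp_mul, h1 _ hc, p1]
      · rw [df, gapp_mul, h2 _ hc, p2]
        show _ = B.Fv 0 - K.bar (K.bar α * β) • B.z + δ • B.E 0
        rw [map_mul, K.bar_bar]
        have c2' := congrArg K.bar c2
        simp only [map_add, map_mul, K.bar_bar, map_zero] at c2'
        match_scalars
        · ring
        · ring
        · linear_combination α * c2' - ε * c1
      · rw [dz, gapp_mul, h3 _ hc, gapp_smul, p3]
        show _ = K.bar (K.bar α) • (B.z + (K.bar α * β) • B.E 0)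
        rw [K.bar_bar]
        match_scalars
        · linear_combination -β * c1
        · ring
    · rintro ⟨x, c, hc, he⟩
      rw [he, mul_assoc, ← map_mul, ← map_mul, ← map_mul, ← map_mul, hconj c hc, ← mul_assoc, hmul,
        ← mul_assoc, hmul]
      congr 3
      refine par_ext (by simp) ?_
      simp [show c * K.bar c = 1 from hc, add_comm]
  let ψ : Par K → GU 3 F q ⧸ Subgroup.center (GU 3 F q) := fun x => mk (φ x)
  have hψinj : Function.Injective ψ := fun x y e => by
    have h1 : pmul K x (pinv K y) = pone K := hinjφ (by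
      rw [← hmul, map_mul, show mk (φ x) = mk (φ y) from e, ← map_mul, hmul, pmul_pinv, hone, map_one])
    calc x = pmul K (pmul K x (pinv K y)) y := by rw [pmul_assoc, pinv_pmul, pmul_one]
      _ = y := by rw [h1, one_pmul]
  let P : Subgroup (GU 3 F q ⧸ Subgroup.center (GU 3 F q)) :=
    { carrier := Set.range ψ
      one_mem' := ⟨pone K, by simp only [ψ, hone, map_one]⟩
      mul_mem' := by rintro _ _ ⟨x, rfl⟩ ⟨y, rfl⟩; exact ⟨pmul K x y, by simp only [ψ, ← map_mul, hmul]⟩
      inv_mem' := by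
        rintro _ ⟨x, rfl⟩
        refine ⟨pinv K x, (inv_eq_of_mul_eq_one_right ?_).symm⟩
        simp only [ψ, ← map_mul, hmul, pmul_pinv, hone, map_one] }
  refine ⟨ψ, fun c => mk (h c), ?_, hψinj, ?_, ?_, ?_, hcent, ?_, ?_, hq⟩
  · intro x y; simp only [ψ, ← map_mul, hmul]
  · intro c d hc hd; rw [← map_mul, hhmul c d hc hd]
  · intro c hc x
    show mk (h c) * mk (φ x) * (mk (h c))⁻¹ = mk (φ (scl K c x))
    rw [mul_inv_eq_iff_eq_mul, ← map_mul, ← map_mul, hconj c hc]
  · intro c x hc e; exact (hsep hc e).1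
  · intro t ht ht1
    haveI : Fact (Nat.Prime 2) := ⟨Nat.prime_two⟩
    have hcard : Nat.card P = q ^ 3 := by
      rw [← CfsgLib.Classical.URoot.card_par K (two_eq (F := F))]
      exact (Nat.card_congr (Equiv.ofInjective ψ hψinj)).symm
    obtain ⟨k, hk⟩ := q_two_pow K
    have hPG : IsPGroup 2 P := IsPGroup.of_card (n := k * 3) (by rw [hcard, hk, pow_mul])
    let S : Sylow 2 (GU 3 F q ⧸ Subgroup.center (GU 3 F q)) := hPG.toSylow (odd_index K hcard)
    have hZ : IsPGroup 2 (Subgroup.zpowers t) :=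
      IsPGroup.of_card (n := 1) (by
        rw [Nat.card_zpowers, pow_one, orderOf_eq_prime (by rw [pow_two, ht]) ht1])
    obtain ⟨T, hT⟩ := hZ.exists_le_sylow
    obtain ⟨g, hg⟩ := MulAction.exists_smul_eq (GU 3 F q ⧸ Subgroup.center (GU 3 F q)) T S
    have hmem : g * t * g⁻¹ ∈ (S : Subgroup _) := by
      rw [← hg, Sylow.coe_subgroup_smul]
      refine Subgroup.mem_pointwise_smul_iff_inv_smul_mem.mpr ?_
      rw [MulAut.smul_def, ← map_inv, MulAut.conj_apply]
      have : g⁻¹ * (g * t * g⁻¹) * g⁻¹⁻¹ = t := by group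
      rw [this]
      exact hT (Subgroup.mem_zpowers t)
    obtain ⟨x, hx⟩ := (show g * t * g⁻¹ ∈ P from hmem)
    have hx2 : ψ (pmul K x x) = ψ (pone K) := by
      show mk (φ _) = mk (φ _)
      rw [← hmul, map_mul, show mk (φ x) = g * t * g⁻¹ from hx, hone, map_one]
      calc g * t * g⁻¹ * (g * t * g⁻¹) = g * (t * t) * g⁻¹ := by group
        _ = 1 := by rw [ht, mul_one, mul_inv_cancel]
    have hxx := congrArg (fun z : Par K => z.1.2) (hψinj hx2)
    simp only [pmul_snd, pone_snd, CharTwo.add_self_eq_zero, zero_add] at hxx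
    have ha : x.1.1 = 0 := by
      rcases mul_eq_zero.mp hxx with h | h
      · exact h
      · exact (map_eq_zero K.bar).mp h
    have hb := bar_snd_of_fst x ha
    have hb0 : x.1.2 ≠ 0 := snd_ne x fun e => ht1 (by
      rw [e, show ψ (pone K) = 1 by simp only [ψ, hone, map_one]] at hx
      calc t = g⁻¹ * (g * t * g⁻¹) * g := by group
        _ = 1 := by rw [← hx, mul_one, inv_mul_cancel])
    obtain ⟨s, hs, hss⟩ := exists_sqrt K hb
    have hs0 : s ≠ 0 := fun e => hb0 (by rw [← hss, e, mul_zero])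
    obtain ⟨d, d1, d2, d3⟩ := exists_dil K B hs hs0
    refine ⟨g⁻¹ * mk d, ?_⟩
    have e : d * φ (ez K) = φ x * d := by
      refine gapp_ext₁ K B ?_ ?_ ?_ <;>
        simp only [gapp_mul, d1, d2, d3, p1, p2, p3, gapp_add, gapp_sub, gapp_smul, ez_fst, ez_snd, ha,
          map_zero, zero_smul, sub_zero, add_zero, one_smul]
      rw [← hss]
      match_scalars <;> field_simp
    have e2 : mk d * ψ (ez K) * (mk d)⁻¹ = g * t * g⁻¹ := by
      rw [← hx, mul_inv_eq_iff_eq_mul]
      show mk d * mk (φ (ez K)) = mk (φ x) * mk d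
      rw [← map_mul, ← map_mul, e]
    calc g⁻¹ * mk d * ψ (ez K) * (g⁻¹ * mk d)⁻¹ = g⁻¹ * (mk d * ψ (ez K) * (mk d)⁻¹) * g := by group
      _ = t := by rw [e2]; group
  · obtain ⟨w, w1, w2, w3⟩ := exists_flip K B
    refine ⟨mk w, ez K, ?_⟩
    rintro ⟨x, hx⟩
    have hx' : mk (φ x * w) = mk (w * φ (ez K)) := by
      rw [map_mul, map_mul, show mk (φ x) = _ from hx, inv_mul_cancel_right]
    obtain ⟨l, hl⟩ := hmkeq hx'
    have e := congrArg (fun v => hermForm 3 F q v (B.E 0)) (hl (B.E 0))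
    have e' := congrArg (fun v => hermForm 3 F q v (B.E 0)) (hl (B.Fv 0))
    simp only [gapp_mul, w1, w2, p1, p2, ez_fst, ez_snd, map_zero, zero_smul, sub_zero, one_smul,
      gapp_add, h_add_left K, h_sub_left K, h_smul_left K, B.ee, B.ze, B.fe 0 0 one_pos one_pos,
      if_pos, mul_zero, mul_one, add_zero, zero_add] at e e'
    exact zero_ne_one e'.symm

end CfsgLib.UThreeCent
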