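import Cfsg.Agent.Lib.Classical.UnitaryRootGroup
import Cfsg.Agent.Lib.SUPres.Model

/-!
# Arithmetic in the root group of `PGU₃(2^m)`
-/

set_option autoImplicit false
set_option linter.unusedSectionVars false

namespace CfsgLib.UThreeCent

open CfsgLib.ClassicalAut (Unitary.Conj)
open CfsgLib.Classical.URoot (Par pmul pinv pone)

variable {F : Type*} [Field F] [Finite F] [CharP F 2] {q : ℕ} (K : Unitary.Conj F q)

theorem two_eq : (2 : F) = 0 := by
  have := CharP.cast_eq_zero F 2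
  simpa using this

theorem add_cancel' (a b : F) : a + (a + b) = b := by
  rw [← add_assoc, CharTwo.add_self_eq_zero, zero_add]

theorem eq_of_add_eq_zero {a b : F} (h : a + b = 0) : a = b := by
  rw [← add_cancel' b a, add_comm b a, h, add_zero]

include K in
theorem q_two_pow : ∃ k : ℕ, q = 2 ^ k := by
  cases nonempty_fintype F
  obtain ⟨e, -, he⟩ := FiniteField.card F 2
  have h : q ∣ 2 ^ (e : ℕ) := by
    rw [← he, ← Nat.card_eq_fintype_card, K.card]
    exact dvd_pow_self q two_ne_zero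
  obtain ⟨k, -, hk⟩ := (Nat.dvd_prime_pow Nat.prime_two).1 h
  exact ⟨k, hk⟩

include K in
theorem q_even : Even q := by
  obtain ⟨k, hk⟩ := q_two_pow K
  have := K.two_le
  rw [hk]
  refine Nat.even_pow.mpr ⟨even_two, ?_⟩
  rintro rfl
  rw [pow_zero] at hk
  omega

include K in
theorem q_succ_odd : Odd (q + 1) := (q_even K).add_one

include K in
theorem coprime_pm : Nat.Coprime (q - 1) (q + 1) := by
  have h2 := K.two_le
  have he := q_even K
  have h1 : Nat.gcd (q - 1) (q + 1) ∣ 2 := by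
    have := Nat.dvd_sub (Nat.gcd_dvd_right (q - 1) (q + 1)) (Nat.gcd_dvd_left (q - 1) (q + 1))
    rwa [show q + 1 - (q - 1) = 2 by omega] at this
  rcases (Nat.dvd_prime Nat.prime_two).mp h1 with h | h
  · exact h
  · have h3 : 2 ∣ q + 1 := h ▸ Nat.gcd_dvd_right (q - 1) (q + 1)
    exact absurd h3 he.add_one.not_two_dvd_nat

/-- The norm-one elements. -/
def Mu (c : F) : Prop := c * K.bar c = 1

variable {K}

theorem Mu.ne {c : F} (h : Mu K c) : c ≠ 0 := left_ne_zero_of_mul_eq_one h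

theorem Mu.one : Mu K 1 := by rw [Mu, map_one, one_mul]

theorem Mu.mul {c d : F} (hc : Mu K c) (hd : Mu K d) : Mu K (c * d) := by
  rw [Mu, map_mul, mul_mul_mul_comm, hc, hd, one_mul]

theorem Mu.bar {c : F} (hc : Mu K c) : Mu K (K.bar c) := by
  rw [Mu, K.bar_bar, mul_comm]; exact hc

theorem Mu.pow {c : F} (hc : Mu K c) (n : ℕ) : Mu K (c ^ n) := by
  rw [Mu, map_pow, ← mul_pow, hc, one_pow]

theorem Mu.inv_eq {c : F} (hc : Mu K c) : c⁻¹ = K.bar c := inv_eq_of_mul_eq_one_right hc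

theorem Mu.pow_succ {c : F} (hc : Mu K c) : c ^ (q + 1) = 1 := by
  rw [_root_.pow_succ', ← K.bar_apply]; exact hc

theorem mu_iff {c : F} : Mu K c ↔ c ^ (q + 1) = 1 := by
  refine ⟨Mu.pow_succ, fun h => ?_⟩
  rw [Mu, K.bar_apply, ← _root_.pow_succ']; exact h

theorem bar_self_mul (a : F) : K.bar (a * K.bar a) = a * K.bar a := by
  rw [map_mul, K.bar_bar, mul_comm]

theorem bar_tr (a : F) : K.bar (a + K.bar a) = a + K.bar a := by
  rw [map_add, K.bar_bar, add_comm]

variable (K)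

theorem exists_par (a : F) : ∃ b : F, a * K.bar a + b + K.bar b = 0 := by
  obtain ⟨y, hy⟩ := K.exists_trace
  refine ⟨-(a * K.bar a) * y / (y + K.bar y), ?_⟩
  simp only [map_div₀, map_mul, map_neg, map_add, K.bar_bar, add_comm (K.bar y) y]
  field_simp
  ring

theorem exists_tr (b : F) (hb : K.bar b = b) : ∃ x : F, x + K.bar x = b := by
  obtain ⟨y, hy⟩ := K.exists_trace
  refine ⟨b * y / (y + K.bar y), ?_⟩
  rw [map_div₀, map_mul, bar_tr, hb]
  field_simp

/-- A root with trace one. -/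
theorem exists_tr_one : ∃ t : F, t + K.bar t = 1 := exists_tr K 1 (map_one _)

theorem exists_sqrt {n : F} (hn : K.bar n = n) : ∃ y : F, K.bar y = y ∧ y * y = n := by
  cases nonempty_fintype F
  obtain ⟨y, hy⟩ := (bijective_frobenius F 2).2 n
  rw [frobenius_def, pow_two] at hy
  refine ⟨y, ?_, hy⟩
  have h : (K.bar y + y) * (K.bar y + y) = 0 := by
    rw [CharTwo.add_mul_self, ← map_mul, hy, hn, CharTwo.add_self_eq_zero]
  exact eq_of_add_eq_zero (mul_self_eq_zero.mp h)

include K in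
theorem card_mu : Nat.card {c : F // Mu K c} = q + 1 := by
  classical
  cases nonempty_fintype F
  obtain ⟨μ, D⟩ := CfsgLib.SUPres.exists_fd K
  have h2 := K.two_le
  set r := K.bar μ / μ with hr
  have hb0 : K.bar μ ≠ 0 := (map_ne_zero K.bar).2 D.ne
  have hr1 : ∀ k, Mu K (r ^ k) := fun k => by
    refine Mu.pow ?_ k
    rw [Mu, hr, map_div₀, K.bar_bar, div_mul_div_comm, mul_comm, div_self (mul_ne_zero D.ne hb0)]
  have hsq : q ^ 2 - 1 = (q - 1) * (q + 1) := by
    have := Nat.sq_sub_sq q 1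
    rw [one_pow] at this
    rw [this, mul_comm]
  have hr2 : ∀ k, r ^ k = μ ^ ((q - 1) * k) := fun k => by
    rw [pow_mul]
    congr 1
    rw [hr, K.bar_apply, div_eq_iff D.ne, ← _root_.pow_succ, Nat.sub_add_cancel (by omega)]
  rw [← Nat.card_fin (q + 1)]
  refine (Nat.card_congr (Equiv.ofBijective (fun k : Fin (q + 1) => ⟨r ^ (k : ℕ), hr1 k⟩) ⟨?_, ?_⟩)).symm
  · intro i j h
    have h' : r ^ (i : ℕ) = r ^ (j : ℕ) := congrArg Subtype.val h
    have key : ∀ {i j : ℕ}, i ≤ j → j < q + 1 → r ^ i = r ^ j → i = j := by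
      intro i j hij hj he
      have h1 : r ^ (j - i) = 1 := by
        have h3 : r ^ i * r ^ (j - i) = r ^ i * 1 := by
          rw [← pow_add, Nat.add_sub_cancel' hij, mul_one, he]
        exact mul_left_cancel₀ (hr1 i).ne h3
      rw [hr2] at h1
      have h4 := D.ord _ h1
      rw [hsq, Nat.mul_dvd_mul_iff_left (by omega)] at h4
      have := Nat.eq_zero_of_dvd_of_lt h4 (by omega)
      omega
    rcases le_total (i : ℕ) (j : ℕ) with hl | hl
    · exact Fin.ext (key hl j.2 h')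
    · exact Fin.ext (key hl i.2 h'.symm).symm
  · rintro ⟨c, hc⟩
    obtain ⟨k, hk⟩ := D.ker c hc
    refine ⟨⟨k % (q + 1), Nat.mod_lt _ (by omega)⟩, Subtype.ext ?_⟩
    show r ^ (k % (q + 1)) = c
    have h1 : r ^ (q + 1) = 1 := by
      have := (hr1 1).pow_succ
      rwa [pow_one] at this
    rw [hk, ← hr]
    exact (pow_eq_pow_mod _ h1).symm

/-- A generator of the norm-one elements. -/
theorem exists_mu_gen : ∃ c₀ : F, Mu K c₀ ∧ c₀ ≠ 1 ∧ ∀ c, Mu K c → ∃ i : ℕ, c = c₀ ^ i := by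
  obtain ⟨μ, D⟩ := CfsgLib.SUPres.exists_fd K
  have hb0 : K.bar μ ≠ 0 := (map_ne_zero K.bar).2 D.ne
  refine ⟨K.bar μ / μ, ?_, fun h => D.bar_ne ((div_eq_one_iff_eq D.ne).mp h), fun c hc => D.ker c hc⟩
  rw [Mu, map_div₀, K.bar_bar, div_mul_div_comm, mul_comm, div_self (mul_ne_zero D.ne hb0)]

/-- A generator of the multiplicative group of the fixed field. -/
theorem exists_fix_gen : ∃ n₀ : F, n₀ ≠ 0 ∧ K.bar n₀ = n₀ ∧
    ∀ c, c ≠ 0 → K.bar c = c → ∃ i : ℕ, c = n₀ ^ i := by
  obtain ⟨μ, D⟩ := CfsgLib.SUPres.exists_fd K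
  exact ⟨μ * K.bar μ, mul_ne_zero D.ne ((map_ne_zero K.bar).2 D.ne), bar_self_mul μ, D.fix⟩

include K in
theorem exists_gen : ∃ μ : F, μ ≠ 0 ∧ ∀ c, c ≠ 0 → ∃ i : ℕ, c = μ ^ i := by
  obtain ⟨μ, D⟩ := CfsgLib.SUPres.exists_fd K
  exact ⟨μ, D.ne, D.gen⟩

/-- Scaling of parameters. -/
def scl (l : F) (x : Par K) : Par K :=
  ⟨(l * x.1.1, l * K.bar l * x.1.2), by
    have := x.2
    simp only [map_mul, K.bar_bar]
    linear_combination (l * K.bar l) * this⟩

/-- A central parameter. -/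
def zp (b : F) (hb : K.bar b = b) : Par K :=
  ⟨(0, b), by rw [hb, zero_mul, zero_add, CharTwo.add_self_eq_zero]⟩

/-- The distinguished central parameter. -/
def ez : Par K := zp K 1 (map_one _)

variable {K}

theorem par_ext {x y : Par K} (h1 : x.1.1 = y.1.1) (h2 : x.1.2 = y.1.2) : x = y :=
  Subtype.ext (Prod.ext h1 h2)

theorem tr_par (x : Par K) : x.1.2 + K.bar x.1.2 = x.1.1 * K.bar x.1.1 := by
  have := x.2
  linear_combination this - (x.1.1 * K.bar x.1.1) * two_eq (F := F)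

theorem bar_snd_of_fst (x : Par K) (h : x.1.1 = 0) : K.bar x.1.2 = x.1.2 := by
  have := tr_par x
  rw [h, zero_mul] at this
  exact (eq_of_add_eq_zero this).symm

theorem eq_zp (x : Par K) (h : x.1.1 = 0) : x = zp K x.1.2 (bar_snd_of_fst x h) := par_ext h rfl

theorem snd_ne (x : Par K) (h : x ≠ pone K) : x.1.2 ≠ 0 := fun h0 => by
  have h1 := tr_par x
  rw [h0, map_zero, add_zero] at h1
  have h2 : x.1.1 = 0 := by
    rcases mul_eq_zero.mp h1.symm with h | h
    · exact h
    · exact (map_eq_zero K.bar).mp h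
  exact h (par_ext h2 h0)

@[simp] theorem pmul_fst (x y : Par K) : (pmul K x y).1.1 = x.1.1 + y.1.1 := rfl

@[simp] theorem pmul_snd (x y : Par K) :
    (pmul K x y).1.2 = x.1.2 + y.1.2 + x.1.1 * K.bar y.1.1 := by
  show x.1.2 + y.1.2 - K.bar y.1.1 * x.1.1 = _
  rw [CharTwo.sub_eq_add, mul_comm]

@[simp] theorem pinv_fst (x : Par K) : (pinv K x).1.1 = x.1.1 := CharTwo.neg_eq _

@[simp] theorem pinv_snd (x : Par K) : (pinv K x).1.2 = K.bar x.1.2 := rfl

@[simp] theorem pone_fst : (pone K : Par K).1.1 = 0 := rfl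

@[simp] theorem pone_snd : (pone K : Par K).1.2 = 0 := rfl

@[simp] theorem scl_fst (l : F) (x : Par K) : (scl K l x).1.1 = l * x.1.1 := rfl

@[simp] theorem scl_snd (l : F) (x : Par K) : (scl K l x).1.2 = l * K.bar l * x.1.2 := rfl

@[simp] theorem zp_fst (b : F) (hb : K.bar b = b) : (zp K b hb).1.1 = 0 := rfl

@[simp] theorem zp_snd (b : F) (hb : K.bar b = b) : (zp K b hb).1.2 = b := rfl

@[simp] theorem ez_fst : (ez K).1.1 = 0 := rfl

@[simp] theorem ez_snd : (ez K).1.2 = 1 := rfl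

theorem pmul_one (x : Par K) : pmul K x (pone K) = x := par_ext (by simp) (by simp)

theorem one_pmul (x : Par K) : pmul K (pone K) x = x := par_ext (by simp) (by simp)

theorem pmul_assoc (x y z : Par K) : pmul K (pmul K x y) z = pmul K x (pmul K y z) :=
  par_ext (by simp [add_assoc]) (by simp; ring)

theorem pinv_pmul (x : Par K) : pmul K (pinv K x) x = pone K := by
  refine par_ext (by simp [CharTwo.add_self_eq_zero]) ?_
  simp only [pmul_snd, pinv_snd, pinv_fst, pone_snd]
  rw [← tr_par x, add_comm (K.bar x.1.2), CharTwo.add_self_eq_zero]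

theorem pmul_pinv (x : Par K) : pmul K x (pinv K x) = pone K := by
  refine par_ext (by simp [CharTwo.add_self_eq_zero]) ?_
  simp only [pmul_snd, pinv_snd, pinv_fst, pone_snd]
  rw [← tr_par x, CharTwo.add_self_eq_zero]

theorem scl_scl (l m : F) (x : Par K) : scl K l (scl K m x) = scl K (l * m) x :=
  par_ext (by simp [mul_assoc]) (by simp; ring)

theorem scl_one (x : Par K) : scl K 1 x = x := par_ext (by simp) (by simp)

theorem scl_pmul (l : F) (x y : Par K) : scl K l (pmul K x y) = pmul K (scl K l x) (scl K l y) :=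
  par_ext (by simp [mul_add]) (by simp; ring)

theorem scl_pinv (l : F) (x : Par K) : scl K l (pinv K x) = pinv K (scl K l x) :=
  par_ext (by simp) (by simp [K.bar_bar]; exact Or.inl (mul_comm _ _))

theorem scl_pone (l : F) : scl K l (pone K) = pone K := par_ext (by simp) (by simp)

theorem scl_inj {l : F} (hl : l ≠ 0) : Function.Injective (scl K l) := fun x y h => by
  rw [← scl_one x, ← scl_one y, ← inv_mul_cancel₀ hl, ← scl_scl, h, scl_scl]

theorem scl_eq_pone {l : F} (hl : l ≠ 0) {x : Par K} : scl K l x = pone K ↔ x = pone K :=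
  ⟨fun h => scl_inj hl (h.trans (scl_pone l).symm), fun h => by rw [h, scl_pone]⟩

theorem scl_zp (l b : F) (hb : K.bar b = b) :
    scl K l (zp K b hb) = zp K (l * K.bar l * b) (by rw [map_mul, bar_self_mul, hb]) :=
  par_ext (by simp) (by simp)

/-- A root of the fixed field lies in it. -/
theorem root_fixed {t : F} (ht : t + K.bar t = 1) {r : F} (hr : K.bar r = r) :
    r + t ≠ 0 ∧ K.bar (r + t) = r + t + 1 ∧ r + t + 1 ≠ 0 := by
  have h0 : K.bar t = t + 1 := by linear_combination ht - t * two_eq (F := F)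
  have h1 : K.bar (r + t) = r + t + 1 := by rw [map_add, hr, h0, add_assoc]
  refine ⟨fun h => ?_, h1, fun h => ?_⟩
  · rw [h, map_zero, zero_add] at h1
    exact zero_ne_one h1
  · rw [h] at h1
    rw [(map_eq_zero K.bar).mp h1, zero_add] at h
    exact one_ne_zero h

end CfsgLib.UThreeCent
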