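import Cfsg.Agent.Lib.UThreeCent.Local

/-!
# Involution centralisers of `PGU₃(2^m)`: the normaliser of the root group
-/

set_option autoImplicit false
set_option linter.unusedSectionVars false

namespace CfsgLib.UThreeCent

open CfsgLib.ClassicalAut (Unitary.Conj)
open CfsgLib.Classical.URoot (Par pmul pinv pone)

variable {F : Type*} [Field F] [Finite F] [CharP F 2] {q : ℕ} {K : Unitary.Conj F q}

theorem odd_sq_sub (K : Unitary.Conj F q) : Odd (q ^ 2 - 1) := by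
  have h2 := K.two_le
  have : q ≤ q ^ 2 := Nat.le_self_pow two_ne_zero q
  exact Nat.Even.sub_odd (by omega) ((q_even K).pow_of_ne_zero two_ne_zero) odd_one

theorem pow_card (K : Unitary.Conj F q) {a : F} (ha : a ≠ 0) : a ^ (q ^ 2 - 1) = 1 := by
  cases nonempty_fintype F
  rw [← K.card, Nat.card_eq_fintype_card]
  exact FiniteField.pow_card_sub_one_eq_one a ha

/-- Additively, the norm-one elements span the field. -/
theorem closure_mu (K : Unitary.Conj F q) : AddSubgroup.closure {c : F | Mu K c} = ⊤ := by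
  set S := AddSubgroup.closure {c : F | Mu K c} with hS
  have hmul : ∀ s ∈ S, ∀ t ∈ S, s * t ∈ S := by
    intro s hs
    induction hs using AddSubgroup.closure_induction with
    | mem c hc =>
      intro t ht
      induction ht using AddSubgroup.closure_induction with
      | mem d hd => exact AddSubgroup.subset_closure (Mu.mul hc hd)
      | zero => rw [mul_zero]; exact zero_mem _
      | add a b _ _ ha hb => rw [mul_add]; exact add_mem ha hb
      | neg a _ ha => rw [mul_neg]; exact neg_mem ha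
    | zero => intro t _; rw [zero_mul]; exact zero_mem _
    | add a b _ _ ha hb => intro t ht; rw [add_mul]; exact add_mem (ha t ht) (hb t ht)
    | neg a _ ha => intro t ht; rw [neg_mul]; exact neg_mem (ha t ht)
  have hinv : ∀ s ∈ S, s⁻¹ ∈ S := by
    intro s hs
    rcases eq_or_ne s 0 with rfl | h0
    · rw [inv_zero]; exact zero_mem _
    · have hp : ∀ k, s ^ (k + 1) ∈ S := fun k => by
        induction k with
        | zero => rwa [pow_one]
        | succ k ih => rw [pow_succ]; exact hmul _ ih _ hs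
      have h2 := K.two_le
      have h4 : 2 * 2 ≤ q ^ 2 := by rw [pow_two]; exact Nat.mul_le_mul h2 h2
      have h5 : s ^ (q ^ 2 - 1 - 1) * s = 1 := by
        rw [← pow_succ, show q ^ 2 - 1 - 1 + 1 = q ^ 2 - 1 by omega, pow_card K h0]
      rw [inv_eq_of_mul_eq_one_left h5, show q ^ 2 - 1 - 1 = (q ^ 2 - 3) + 1 by omega]
      exact hp _
  by_contra hne
  obtain ⟨a, -, ha⟩ := SetLike.exists_of_lt (lt_top_iff_ne_top.mpr hne)
  have hinj : Function.Injective fun p : S × S => (p.1 : F) + p.2 * a := by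
    intro p p' h
    have h1 : ((p.1 : F) - p'.1) = ((p'.2 : F) - p.2) * a := by linear_combination h
    by_cases h2 : (p'.2 : F) - p.2 = 0
    · rw [h2, zero_mul] at h1
      exact Prod.ext (Subtype.ext (sub_eq_zero.mp h1)) (Subtype.ext (sub_eq_zero.mp h2).symm)
    · exfalso
      refine ha ?_
      rw [show a = ((p'.2 : F) - p.2)⁻¹ * ((p.1 : F) - p'.1) by rw [h1, inv_mul_cancel_left₀ h2]]
      exact hmul _ (hinv _ (sub_mem p'.2.2 p.2.2)) _ (sub_mem p.1.2 p'.1.2)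
  have hc := Nat.card_le_card_of_injective _ hinj
  have hm : q + 1 ≤ Nat.card S := by
    rw [← card_mu K]
    exact Nat.card_le_card_of_injective
      (fun c => (⟨c.1, AddSubgroup.subset_closure c.2⟩ : S))
      fun c d h => Subtype.ext (congrArg (fun e : S => (e : F)) h)
  rw [Nat.card_prod, K.card, pow_two] at hc
  have := Nat.mul_le_mul hm hm
  have : q * q < (q + 1) * (q + 1) := Nat.mul_self_lt_mul_self (by omega)
  omega

variable {G : Type*} [Group G] [Finite G] {ψ : Par K → G} {τ : F → G}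

namespace Loc

variable (L : Loc K ψ τ)

include L

/-- An element of order dividing `q+1` in a coset of the root group is conjugate to the torus. -/
theorem conj_tau {x : Par K} {c : F} (hc : Mu K c) (hc1 : c ≠ 1)
    (hp : (ψ x * τ c) ^ (q + 1) = 1) : ∃ u, ψ x * τ c = ψ u * τ c * (ψ u)⁻¹ := by
  have h1c : 1 + c ≠ 0 := fun h => hc1 (eq_of_add_eq_zero h).symm
  obtain ⟨e, he⟩ := exists_par K (x.1.1 / (1 + c))
  let u : Par K := ⟨(x.1.1 / (1 + c), e), he⟩
  have h2 : (ψ u)⁻¹ * (ψ x * τ c) * ψ u = ψ (pmul K (pmul K (pinv K u) x) (scl K c u)) * τ c := by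
    rw [← L.ψ_mul, ← L.ψ_mul, ← L.ψ_inv, mul_assoc, mul_assoc (ψ x), L.τ_ψ hc]
    group
  set y := pmul K (pmul K (pinv K u) x) (scl K c u) with hy
  have hy1 : y.1.1 = 0 := by
    simp only [hy, pmul_fst, pinv_fst, scl_fst]
    show x.1.1 / (1 + c) + x.1.1 + c * (x.1.1 / (1 + c)) = 0
    field_simp
    linear_combination (x.1.1 + c * x.1.1) * two_eq (F := F)
  have hcomm : Commute (ψ y) (τ c) := by
    show ψ y * τ c = τ c * ψ y
    rw [eq_zp y hy1]
    exact (L.C_comm_zp (L.τ_mem_C hc) _).symm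
  have h3 : (ψ y * τ c) ^ (q + 1) = 1 := by
    rw [← h2]
    have h4 := conj_pow (a := (ψ u)⁻¹) (b := ψ x * τ c) (i := q + 1)
    rw [inv_inv] at h4
    rw [h4, hp, mul_one, inv_mul_cancel]
  rw [hcomm.mul_pow, L.τ_pow hc, hc.pow_succ, L.τ_one, mul_one] at h3
  obtain ⟨k, hk⟩ := q_succ_odd K |>.exists_bit1
  rw [hk, pow_succ, pow_mul, pow_two, L.ψ_sq.mpr hy1, one_pow, one_mul] at h3
  rw [h3, one_mul] at h2
  exact ⟨u, by conv_rhs => rw [← h2]
               group⟩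

theorem exists_normalizer {h : G} (hh : h ∈ L.Hg) : ∃ u, ∀ c, Mu K c → ∃ c', Mu K c' ∧
    ((ψ u)⁻¹ * h) * τ c * ((ψ u)⁻¹ * h)⁻¹ = τ c' := by
  obtain ⟨c₀, hc₀, hne, hgen⟩ := exists_mu_gen K
  have hpow : (h * τ c₀ * h⁻¹) ^ (q + 1) = 1 := by
    rw [conj_pow, L.τ_pow hc₀, hc₀.pow_succ, L.τ_one, mul_one, mul_inv_cancel]
  have hC : h * τ c₀ * h⁻¹ ∈ L.Cg :=
    L.odd_C (L.Hg.mul_mem (L.Hg.mul_mem hh (L.C_le_H (L.τ_mem_C hc₀))) (L.Hg.inv_mem hh)) hpow
  obtain ⟨x, c', hc', he⟩ := L.mem_C.mp hC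
  rw [he] at hpow
  have hc'1 : c' ≠ 1 := by
    rintro rfl
    rw [L.τ_one, mul_one] at hpow he
    have h1 : ψ x = 1 := orderOf_eq_one_iff.mp (Nat.dvd_one.mp (by
      have h8 : Nat.Coprime (q + 1) 4 :=
        show Nat.Coprime (q + 1) (2 ^ 2) from Nat.Coprime.pow_right _ (q_succ_odd K).coprime_two_right
      rw [← h8.gcd_eq_one]
      exact Nat.dvd_gcd (orderOf_dvd_of_pow_eq_one hpow) (orderOf_dvd_of_pow_eq_one (L.ψ_four x))))
    rw [h1, mul_inv_eq_one, mul_eq_left] at he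
    exact hne (L.τ_sep c₀ (pone K) hc₀ (he.trans L.ψ_one.symm))
  obtain ⟨u, hu⟩ := L.conj_tau hc' hc'1 hpow
  refine ⟨u, fun c hc => ?_⟩
  obtain ⟨i, rfl⟩ := hgen c hc
  refine ⟨c' ^ i, hc'.pow i, ?_⟩
  rw [← L.τ_pow hc₀, ← conj_pow, ← L.τ_pow hc']
  congr 1
  calc (ψ u)⁻¹ * h * τ c₀ * ((ψ u)⁻¹ * h)⁻¹ = (ψ u)⁻¹ * (h * τ c₀ * h⁻¹) * ψ u := by group
    _ = τ c' := by rw [he, hu]; group

/-- Elements normalising the torus act semilinearly. -/
theorem semilin {h : G} (hh : h ∈ L.Hg)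
    (hσ : ∀ c, Mu K c → ∃ c', Mu K c' ∧ h * τ c * h⁻¹ = τ c') :
    ∃ (θ : F →+* F) (l : F), l ≠ 0 ∧
      (∀ x y, h * ψ x * h⁻¹ = ψ y → y.1.1 = l * θ x.1.1) ∧
      (∀ c, Mu K c → h * τ c * h⁻¹ = τ (θ c)) ∧
      ∀ b : Zs K, (L.ρ ⟨h, hh⟩ b).1 = l * K.bar l * θ b.1 := by
  choose α hα using L.H_conj hh
  have hmul : ∀ x y, α (pmul K x y) = pmul K (α x) (α y) := fun x y => L.ψ_inj (by
    rw [← hα, ← L.ψ_mul, ← L.ψ_mul, ← hα, ← hα]; group)
  have hsq : ∀ x, (α x).1.1 = 0 ↔ x.1.1 = 0 := fun x => by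
    rw [← L.ψ_sq, ← L.ψ_sq, ← hα x,
      show h * ψ x * h⁻¹ * (h * ψ x * h⁻¹) = h * (ψ x * ψ x) * h⁻¹ by group, mul_inv_eq_one,
      mul_eq_left]
  choose e he using exists_par K
  let p : F → Par K := fun a => ⟨(a, e a), he a⟩
  let δ : F → F := fun a => (α (p a)).1.1
  have hδ : ∀ x : Par K, (α x).1.1 = δ x.1.1 := fun x => by
    have hz : (pmul K (pinv K (p x.1.1)) x).1.1 = 0 := by
      simp [p, CharTwo.add_self_eq_zero]
    have hx : x = pmul K (p x.1.1) (pmul K (pinv K (p x.1.1)) x) := by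
      rw [← pmul_assoc, pmul_pinv, one_pmul]
    conv_lhs => rw [hx]
    rw [hmul, pmul_fst, (hsq _).mpr hz, add_zero]
  have hadd : ∀ a b, δ (a + b) = δ a + δ b := fun a b => by
    have h1 := hδ (pmul K (p a) (p b))
    rw [hmul] at h1
    exact h1.symm
  choose σ hσm hσe using hσ
  have hσα : ∀ c (hc : Mu K c) a, δ (c * a) = σ c hc * δ a := fun c hc a => by
    have h1 : α (scl K c (p a)) = scl K (σ c hc) (α (p a)) := L.ψ_inj (by
      rw [← hα, ← L.τ_conj _ (hσm c hc), ← hσe c hc, ← hα, ← L.τ_conj c hc]; group)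
    have h2 := congrArg (fun y : Par K => y.1.1) h1
    simp only [scl_fst, hδ] at h2
    exact h2
  have hl : δ 1 ≠ 0 := fun h0 => one_ne_zero ((hsq (p 1)).mp h0 : (1 : F) = 0)
  set l := δ 1 with hldef
  have hμ : ∀ c (hc : Mu K c), δ c / l = σ c hc := fun c hc => by
    rw [div_eq_iff hl, hldef, ← hσα, mul_one]
  have hm : ∀ a b, δ (a * b) / l = δ a / l * (δ b / l) := by
    intro a
    have ha : a ∈ AddSubgroup.closure {c : F | Mu K c} := by rw [closure_mu]; exact trivial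
    induction ha using AddSubgroup.closure_induction with
    | mem c hc => intro b; rw [hσα c hc, hμ c hc, mul_div_assoc]
    | zero =>
      intro b
      have h0 : δ 0 = 0 := by have := hadd 0 0; rwa [add_zero, CharTwo.add_self_eq_zero] at this
      simp [h0]
    | add u v _ _ hu hv => intro b; rw [add_mul, hadd, hadd, add_div, hu, hv, add_div, add_mul]
    | neg u _ hu => intro b; rw [CharTwo.neg_eq]; exact hu b
  let θ : F →+* F :=
    { toFun := fun a => δ a / l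
      map_one' := div_self hl
      map_mul' := hm
      map_zero' := by
        have := hadd 0 0
        rw [add_zero, CharTwo.add_self_eq_zero] at this
        simp [this]
      map_add' := fun a b => by rw [hadd, add_div] }
  have hδθ : ∀ a, δ a = l * θ a := fun a => (mul_div_cancel₀ (δ a) hl).symm
  refine ⟨θ, l, hl, fun x y hxy => ?_, fun c hc => ?_, fun b => ?_⟩
  · rw [← hδθ, ← hδ, L.ψ_inj ((hα x).symm.trans hxy)]
  · rw [show θ c = σ c hc from hμ c hc]; exact hσe c hc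
  · obtain ⟨y, hy, hyy⟩ := exists_sqrt K b.2.1
    have h1 : pmul K (p y) (p y) = zp K b.1 b.2.1 :=
      par_ext (by simp [CharTwo.add_self_eq_zero]) (by simp [p, hy, hyy, CharTwo.add_self_eq_zero])
    have h2 : α (zp K b.1 b.2.1) = zp K (L.ρ ⟨h, hh⟩ b).1 (L.ρ ⟨h, hh⟩ b).2.1 :=
      L.ψ_inj ((hα _).symm.trans (L.zc_spec ⟨h, hh⟩ b))
    rw [← h1, hmul] at h2
    have h3 := congrArg (fun z : Par K => z.1.2) h2
    simp only [pmul_snd, CharTwo.add_self_eq_zero, zero_add, zp_snd, hδ] at h3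
    have hbar : ∀ a, K.bar (θ a) = θ (K.bar a) := fun a => by rw [K.bar_apply, K.bar_apply, map_pow]
    rw [← h3, show (p y).1.1 = y from rfl, hδθ, map_mul, hbar, hy, mul_mul_mul_comm, ← map_mul, hyy]

theorem ρ_semi (h : L.Hg) : ∃ (θ : F →+* F) (m : F), ∀ b : Zs K, (L.ρ h b).1 = m * θ b.1 := by
  obtain ⟨u, hu⟩ := L.exists_normalizer h.2
  obtain ⟨θ, l, -, -, -, hρ⟩ := L.semilin (L.Hg.mul_mem (L.Hg.inv_mem (L.ψ_mem_H u)) h.2) hu
  refine ⟨θ, l * K.bar l, fun b => ?_⟩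
  rw [← hρ b, show (⟨(ψ u)⁻¹ * (h : G), _⟩ : L.Hg) = ⟨ψ u, L.ψ_mem_H u⟩⁻¹ * h from rfl,
    map_mul, map_inv, L.ρ_C (h := ⟨ψ u, _⟩) (L.ψ_mem_C u), inv_one, one_mul]

/-- The normaliser acts linearly on the centre. -/
theorem ρ_linear (h : L.Hg) (b : Zs K) : (L.ρ h b).1 = (L.ρ h (zone K)).1 * b.1 := by
  set n := (L.ρ h (zone K)).1 with hn
  by_cases h1 : n = 1
  · have h2 : L.ρ h = L.ρ 1 := L.ρ_eq (Subtype.ext (by rw [map_one, Equiv.Perm.one_apply]; exact h1))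
    rw [h2, map_one, Equiv.Perm.one_apply, h1, one_mul]
  · have hn1 : n + 1 ≠ 0 := fun e => h1 (eq_of_add_eq_zero e)
    obtain ⟨h', hh'⟩ := L.ρ_trans ⟨n + 1, by rw [map_add, map_one, (L.ρ h (zone K)).2.1], hn1⟩
    obtain ⟨θ, m, hθ⟩ := L.ρ_semi h
    obtain ⟨θ', m', hθ'⟩ := L.ρ_semi h'
    have hm : m = n := by rw [hn, hθ]; simp [zone]
    have hm' : m' = n + 1 := by
      have := hθ' (zone K); rw [hh'] at this; simpa [zone] using this.symm
    have key : ∀ b : Zs K, (L.ρ h' b).1 = (L.ρ h b).1 + b.1 := fun b => by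
      obtain ⟨g, rfl⟩ := L.ρ_trans b
      obtain ⟨χ, k, hk⟩ := L.ρ_semi g
      rw [← Equiv.Perm.mul_apply, L.ρ_comm h' g, Equiv.Perm.mul_apply, hh', hk,
        ← Equiv.Perm.mul_apply, L.ρ_comm h g, Equiv.Perm.mul_apply, hk, hk]
      show k * χ (n + 1) = k * χ n + k * χ (zone K).1
      simp [zone, mul_add]
    have h2 := key b
    have h3 := key ⟨b.1 * b.1, by rw [map_mul, b.2.1], mul_ne_zero b.2.2 b.2.2⟩
    simp only [hθ, hθ', hm, hm', map_mul] at h2 h3 ⊢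
    have h4 : n * ((θ b.1 + b.1) * (θ b.1 + b.1)) = 0 := by
      linear_combination ((n + 1) * θ' b.1 + (n * θ b.1 + b.1)) * h2 - (n + 1) * h3 +
        (n * b.1 * θ b.1 * 2) * two_eq (F := F)
    rcases mul_eq_zero.mp h4 with h5 | h5
    · exact absurd h5 (L.ρ h (zone K)).2.2
    · rw [eq_of_add_eq_zero (mul_self_eq_zero.mp h5)]

/-- An element acting by a scaling whose norm generates the fixed field. -/
theorem exists_scaling : ∃ (d : G) (l : F), l ≠ 0 ∧
    (∀ n, n ≠ 0 → K.bar n = n → ∃ i : ℕ, n = (l * K.bar l) ^ i) ∧ d ^ (q ^ 2 - 1) = 1 ∧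
    (∀ x, d * ψ x * d⁻¹ = ψ (scl K l x)) ∧ ∀ c, Mu K c → d * τ c = τ c * d := by
  obtain ⟨n₀, hn0, hnb, hgen⟩ := exists_fix_gen K
  obtain ⟨y, hy, hyy⟩ := exists_sqrt K hnb
  have hy0 : y ≠ 0 := fun h => hn0 (by rw [← hyy, h, mul_zero])
  obtain ⟨g, hg⟩ := L.ρ_trans ⟨y, hy, hy0⟩
  obtain ⟨u, hu⟩ := L.exists_normalizer g.2
  have hH : (ψ u)⁻¹ * (g : G) ∈ L.Hg := L.Hg.mul_mem (L.Hg.inv_mem (L.ψ_mem_H u)) g.2
  set k := (ψ u)⁻¹ * (g : G)
  obtain ⟨θ, l, hl, hfst, hτ, hρ⟩ := L.semilin hH hu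
  have hρk : L.ρ ⟨k, hH⟩ = L.ρ g := by
    rw [show (⟨k, hH⟩ : L.Hg) = ⟨ψ u, L.ψ_mem_H u⟩⁻¹ * g from rfl,
      map_mul, map_inv, L.ρ_C (h := ⟨ψ u, _⟩) (L.ψ_mem_C u), inv_one, one_mul]
  have hNl : l * K.bar l = y := by
    have := hρ (zone K)
    rw [hρk, hg] at this
    simpa [zone] using this.symm
  have hfix : ∀ b, K.bar b = b → θ b = b := fun b hb => by
    by_cases h0 : b = 0
    · rw [h0, map_zero]
    · have := hρ ⟨b, hb, h0⟩
      rw [hρk, L.ρ_linear, hg, hNl] at this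
      exact (mul_left_cancel₀ hy0 this).symm
  have hθθ : ∀ a, θ (θ a) = a := fun a => by
    have ht := hfix _ (bar_tr (K := K) a)
    have hn := hfix _ (bar_self_mul (K := K) a)
    rw [map_add] at ht
    rw [map_mul] at hn
    have h : (θ a + a) * (θ a + K.bar a) = 0 := by
      linear_combination θ a * ht - hn +
        (a * θ a + K.bar a * θ a) * two_eq (F := F)
    rcases mul_eq_zero.mp h with h | h
    · rw [eq_of_add_eq_zero h, eq_of_add_eq_zero h]
    · rw [eq_of_add_eq_zero h] at ht ⊢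
      linear_combination ht
  set h₁ := k * k
  set L₁ := l * θ l
  have hL₁ : L₁ ≠ 0 := mul_ne_zero hl ((map_ne_zero θ).2 hl)
  have hN : L₁ * K.bar L₁ = n₀ := by
    have hb : K.bar (θ l) = θ (K.bar l) := by rw [K.bar_apply, K.bar_apply, map_pow]
    rw [map_mul, hb, mul_mul_mul_comm, ← map_mul, hNl, hfix y hy, hyy]
  have hcomm : ∀ c, Mu K c → h₁ * τ c * h₁⁻¹ = τ c := fun c hc => by
    obtain ⟨c', hc', he⟩ := hu c hc
    have h' : τ c' = τ (θ c) := he.symm.trans (hτ c hc)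
    have hθc : Mu K (θ c) := by
      rw [Mu, show K.bar (θ c) = θ (K.bar c) by rw [K.bar_apply, K.bar_apply, map_pow], ← map_mul,
        show c * K.bar c = 1 from hc, map_one]
    calc h₁ * τ c * h₁⁻¹ = k * (k * τ c * k⁻¹) * k⁻¹ := by simp only [h₁]; group
      _ = τ c := by rw [hτ c hc, hτ _ hθc, hθθ]
  have hH₁ : h₁ ∈ L.Hg := L.Hg.mul_mem hH hH
  have hconj : ∀ x, h₁ * ψ x * h₁⁻¹ = ψ (scl K L₁ x) := by
    choose α hα using L.H_conj hH₁
    have hmul : ∀ x y, α (pmul K x y) = pmul K (α x) (α y) := fun x y => L.ψ_inj (by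
      rw [← hα, ← L.ψ_mul, ← L.ψ_mul, ← hα, ← hα]; group)
    have hf : ∀ x, (α x).1.1 = L₁ * x.1.1 := fun x => by
      obtain ⟨x', hx'⟩ := L.H_conj hH x
      have h1 := hfst x' (α x) (by rw [← hx', ← hα]; simp only [h₁]; group)
      rw [h1, hfst x x' hx', map_mul, hθθ, mul_assoc]
    let E : Par K → F := fun x => (α x).1.2 + L₁ * K.bar L₁ * x.1.2
    have hE : ∀ x y, E (pmul K x y) = E x + E y := fun x y => by
      simp only [E, hmul, pmul_snd, hf, map_mul]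
      linear_combination (L₁ * K.bar L₁ * x.1.1 * K.bar y.1.1) * two_eq (F := F)
    have hz : ∀ (b : F) (hb : K.bar b = b), E (zp K b hb) = 0 := fun b hb => by
      by_cases h0 : b = 0
      · subst h0
        have h1 := hE (pone K) (pone K)
        rw [pmul_one, CharTwo.add_self_eq_zero] at h1
        rw [show zp K 0 hb = pone K from par_ext rfl rfl, h1]
      · have h1 : α (zp K b hb) = zp K (L.ρ ⟨h₁, hH₁⟩ ⟨b, hb, h0⟩).1 _ :=
          L.ψ_inj ((hα _).symm.trans (L.zc_spec ⟨h₁, hH₁⟩ ⟨b, hb, h0⟩))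
        have h2 : (L.ρ ⟨h₁, hH₁⟩ ⟨b, hb, h0⟩).1 = n₀ * b := by
          rw [L.ρ_linear, show (⟨h₁, hH₁⟩ : L.Hg) = ⟨k, hH⟩ * ⟨k, hH⟩ from rfl, map_mul,
            Equiv.Perm.mul_apply, hρk, L.ρ_linear, hg, hyy]
        simp only [E, h1, zp_snd, h2, hN, CharTwo.add_self_eq_zero]
    have hs : ∀ c, Mu K c → ∀ x, E (scl K c x) = E x := fun c hc x => by
      have h1 : α (scl K c x) = scl K c (α x) := L.ψ_inj (by
        rw [← hα, ← L.τ_conj c hc, ← L.τ_conj c hc, ← hα]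
        conv_rhs => rw [← hcomm c hc]
        group)
      simp only [E, h1, scl_snd, show c * K.bar c = 1 from hc, one_mul]
    obtain ⟨c₀, hc₀, hne, -⟩ := exists_mu_gen K
    have h1c : 1 + c₀ ≠ 0 := fun h => hne (eq_of_add_eq_zero h).symm
    intro x
    obtain ⟨e, he⟩ := exists_par K (x.1.1 / (1 + c₀))
    let v : Par K := ⟨(x.1.1 / (1 + c₀), e), he⟩
    let w := pmul K (scl K c₀ v) v
    have hw : (pmul K (pinv K w) x).1.1 = 0 := by
      simp only [w, v, pmul_fst, pinv_fst, scl_fst]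
      field_simp
      linear_combination (x.1.1 + c₀ * x.1.1) * two_eq (F := F)
    have h0 : E x = 0 := by
      have hx : x = pmul K w (pmul K (pinv K w) x) := by rw [← pmul_assoc, pmul_pinv, one_pmul]
      rw [hx, hE, eq_zp _ hw, hz, add_zero, hE, hs c₀ hc₀, CharTwo.add_self_eq_zero]
    rw [hα]
    exact congrArg ψ (par_ext (hf x) (eq_of_add_eq_zero h0))
  have hpw : ∀ (i : ℕ) x, h₁ ^ i * ψ x * (h₁ ^ i)⁻¹ = ψ (scl K (L₁ ^ i) x) := by
    intro i
    induction i with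
    | zero => intro x; simp [scl_one]
    | succ i ih =>
      intro x
      rw [pow_succ h₁, pow_succ L₁, ← scl_scl, ← ih, ← hconj]
      group
  have hq2 := K.two_le
  refine ⟨h₁ ^ q, L₁ ^ q, pow_ne_zero _ hL₁, fun n hn hnf => ?_, ?_, hpw q, fun c hc => ?_⟩
  · obtain ⟨i, rfl⟩ := hgen n hn hnf
    refine ⟨i, ?_⟩
    rw [map_pow, ← mul_pow, hN, ← K.bar_apply, hnb]
  · have h1 : h₁ ^ (q ^ 2 - 1) ∈ L.Cg := by
      refine Subgroup.mem_centralizer_singleton_iff.mpr ?_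
      have := hpw (q ^ 2 - 1) (ez K)
      rw [pow_card K hL₁, scl_one, mul_inv_eq_iff_eq_mul] at this
      exact this
    obtain ⟨x, c, hc, he⟩ := L.mem_C.mp h1
    have htriv : ∀ z, ψ (pmul K x (scl K c z)) = ψ (pmul K z x) := fun z => by
      have := hpw (q ^ 2 - 1) z
      rw [pow_card K hL₁, scl_one, mul_inv_eq_iff_eq_mul, he, mul_assoc, L.τ_ψ hc,
        ← mul_assoc, ← mul_assoc, L.ψ_mul, L.ψ_mul] at this
      exact mul_right_cancel this
    obtain ⟨e1, he1⟩ := exists_par K (1 : F)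
    have hc1 : c = 1 := by
      have := congrArg (fun z : Par K => z.1.1) (L.ψ_inj (htriv ⟨(1, e1), he1⟩))
      simp only [pmul_fst, scl_fst, mul_one] at this
      linear_combination this
    subst hc1
    have hx : x.1.1 = 0 := by
      have h3 : ∀ z : Par K, x.1.1 * K.bar z.1.1 = z.1.1 * K.bar x.1.1 := fun z => by
        have := congrArg (fun z : Par K => z.1.2) (L.ψ_inj (htriv z))
        simp only [pmul_snd, scl_one] at this
        linear_combination this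
      obtain ⟨t, ht⟩ := exists_tr_one K
      obtain ⟨e2, he2⟩ := exists_par K t
      have h4 := h3 ⟨(1, e1), he1⟩
      have h5 := h3 ⟨(t, e2), he2⟩
      simp only [map_one, mul_one, one_mul] at h4
      simp only [← h4] at h5
      linear_combination h5 - x.1.1 * ht + (x.1.1 * t) * two_eq (F := F)
    rw [L.τ_one, mul_one] at he
    rw [← pow_mul, mul_comm, pow_mul, he]
    obtain ⟨j, hj⟩ := even_iff_two_dvd.mp (q_even K)
    rw [hj, pow_mul, pow_two, L.ψ_sq.mpr hx, one_pow]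
  · refine (Commute.pow_left (mul_inv_eq_iff_eq_mul.mp (hcomm c hc) : Commute h₁ (τ c)) q).eq

/-- The whole torus. -/
theorem exists_torus : ∃ th : F → G,
    (∀ l m, l ≠ 0 → m ≠ 0 → th l * th m = th (l * m)) ∧
    (∀ l, l ≠ 0 → ∀ x, th l * ψ x * (th l)⁻¹ = ψ (scl K l x)) ∧
    (∀ c, Mu K c → th c = τ c) ∧
    ∀ h ∈ L.Hg, ∃ x l, l ≠ 0 ∧ h = ψ x * th l := by
  obtain ⟨d, l₀, hl₀, hgen, hd, hconj, hcomm⟩ := L.exists_scaling
  have hpw : ∀ (i : ℕ) x, d ^ i * ψ x * (d ^ i)⁻¹ = ψ (scl K (l₀ ^ i) x) := by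
    intro i
    induction i with
    | zero => intro x; simp [scl_one]
    | succ i ih =>
      intro x
      rw [pow_succ d, pow_succ l₀, ← scl_scl, ← ih, ← hconj]
      group
  have hact : ∀ c i, Mu K c → ∀ x,
      τ c * d ^ i * ψ x * (τ c * d ^ i)⁻¹ = ψ (scl K (c * l₀ ^ i) x) := fun c i hc x => by
    rw [← scl_scl, ← L.τ_conj c hc, ← hpw]; group
  have hcm : ∀ c (i : ℕ), Mu K c → Commute (τ c) (d ^ i) := fun c i hc =>
    Commute.pow_right (hcomm c hc).symm i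
  have hfm : ∀ c c' (i j : ℕ), Mu K c → Mu K c' →
      τ c * d ^ i * (τ c' * d ^ j) = τ (c * c') * d ^ (i + j) := fun c c' i j hc hc' => by
    rw [← L.τ_mul c c' hc hc', pow_add, mul_assoc, mul_assoc, ← mul_assoc (d ^ i),
      ← (hcm c' i hc').eq, mul_assoc]
  have hone : ∀ c (i : ℕ), Mu K c → c * l₀ ^ i = 1 → τ c * d ^ i = 1 := by
    intro c i hc h1
    have h2 := hact c i hc
    simp only [h1, scl_one] at h2
    have h3 : τ c * d ^ i ∈ L.Cg :=
      Subgroup.mem_centralizer_singleton_iff.mpr (mul_inv_eq_iff_eq_mul.mp (h2 (ez K)))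
    obtain ⟨x, c', hc', he⟩ := L.mem_C.mp h3
    have hodd : (τ c * d ^ i) ^ (q ^ 2 - 1) = 1 := by
      rw [(hcm c i hc).mul_pow, ← pow_mul, mul_comm i, pow_mul, hd, one_pow, mul_one, L.τ_pow hc,
        pow_card K hc.ne, L.τ_one]
    have htriv : ∀ z, ψ (pmul K x (scl K c' z)) = ψ (pmul K z x) := fun z => by
      have := h2 z
      rw [mul_inv_eq_iff_eq_mul, he, mul_assoc, L.τ_ψ hc', ← mul_assoc, ← mul_assoc, L.ψ_mul,
        L.ψ_mul] at this
      exact mul_right_cancel this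
    obtain ⟨e1, he1⟩ := exists_par K (1 : F)
    have hc1 : c' = 1 := by
      have := congrArg (fun z : Par K => z.1.1) (L.ψ_inj (htriv ⟨(1, e1), he1⟩))
      simp only [pmul_fst, scl_fst, mul_one] at this
      linear_combination this
    subst hc1
    rw [L.τ_one, mul_one] at he
    rw [he] at hodd ⊢
    refine orderOf_eq_one_iff.mp (Nat.dvd_one.mp ?_)
    have h8 : Nat.Coprime (q ^ 2 - 1) 4 :=
      show Nat.Coprime (q ^ 2 - 1) (2 ^ 2) from Nat.Coprime.pow_right _ (odd_sq_sub K).coprime_two_right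
    rw [← h8.gcd_eq_one]
    exact Nat.dvd_gcd (orderOf_dvd_of_pow_eq_one hodd) (orderOf_dvd_of_pow_eq_one (L.ψ_four x))
  have huniq : ∀ c c' (i j : ℕ), Mu K c → Mu K c' → c * l₀ ^ i = c' * l₀ ^ j →
      τ c * d ^ i = τ c' * d ^ j := by
    intro c c' i j hc hc' h
    have hle : j ≤ (q ^ 2 - 1) * j := by
      have := odd_sq_sub K
      exact Nat.le_mul_of_pos_left j this.pos
    have hinv : τ c' * d ^ j * (τ (K.bar c') * d ^ ((q ^ 2 - 1) * j - j)) = 1 := by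
      rw [hfm _ _ _ _ hc' hc'.bar, show c' * K.bar c' = 1 from hc', L.τ_one, one_mul,
        Nat.add_sub_cancel' hle, pow_mul, hd, one_pow]
    have h1 : τ c * d ^ i * (τ (K.bar c') * d ^ ((q ^ 2 - 1) * j - j)) = 1 := by
      rw [hfm _ _ _ _ hc hc'.bar]
      refine hone _ _ (hc.mul hc'.bar) ?_
      calc c * K.bar c' * l₀ ^ (i + ((q ^ 2 - 1) * j - j))
          = c * l₀ ^ i * K.bar c' * l₀ ^ ((q ^ 2 - 1) * j - j) := by rw [pow_add]; ring
        _ = c' * K.bar c' * l₀ ^ (j + ((q ^ 2 - 1) * j - j)) := by rw [h, pow_add]; ring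
        _ = 1 := by
          rw [show c' * K.bar c' = 1 from hc', one_mul, Nat.add_sub_cancel' hle, pow_mul,
            pow_card K hl₀, one_pow]
    exact mul_right_cancel (h1.trans hinv.symm)
  have hex : ∀ l, l ≠ 0 → ∃ c, ∃ i : ℕ, Mu K c ∧ l = c * l₀ ^ i := by
    intro l hl
    obtain ⟨i, hi⟩ := hgen _ (mul_ne_zero hl ((map_ne_zero K.bar).2 hl)) (bar_self_mul l)
    refine ⟨l / l₀ ^ i, i, ?_, (div_mul_cancel₀ l (pow_ne_zero i hl₀)).symm⟩
    rw [Mu, map_div₀, map_pow, div_mul_div_comm, ← mul_pow, ← hi,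
      div_self (mul_ne_zero hl ((map_ne_zero K.bar).2 hl))]
  choose cc ii hcc hll using hex
  classical
  let th : F → G := fun l => if h : l ≠ 0 then τ (cc l h) * d ^ ii l h else 1
  have hth : ∀ c (i : ℕ), Mu K c → th (c * l₀ ^ i) = τ c * d ^ i := fun c i hc => by
    have h0 : c * l₀ ^ i ≠ 0 := mul_ne_zero hc.ne (pow_ne_zero i hl₀)
    simp only [th, dif_pos h0]
    exact huniq _ _ _ _ (hcc _ h0) hc (hll _ h0).symm
  refine ⟨th, fun l m hl hm => ?_, fun l hl x => ?_, fun c hc => ?_, fun h hh => ?_⟩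
  · rw [hll l hl, hll m hm, hth _ _ (hcc l hl), hth _ _ (hcc m hm),
      hfm _ _ _ _ (hcc l hl) (hcc m hm),
      show cc l hl * l₀ ^ ii l hl * (cc m hm * l₀ ^ ii m hm) =
        cc l hl * cc m hm * l₀ ^ (ii l hl + ii m hm) by rw [pow_add]; ring,
      hth _ _ ((hcc l hl).mul (hcc m hm))]
  · rw [hll l hl, hth _ _ (hcc l hl), hact _ _ (hcc l hl)]
  · have := hth c 0 hc
    rwa [pow_zero, mul_one, pow_zero, mul_one] at this
  · obtain ⟨i, hi⟩ := hgen _ (L.ρ ⟨h, hh⟩ (zone K)).2.2 (L.ρ ⟨h, hh⟩ (zone K)).2.1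
    have hC : h * (d ^ i)⁻¹ ∈ L.Cg := by
      refine L.C_eq (L.ρ ⟨h, hh⟩ (zone K)).2.1 (L.ρ ⟨h, hh⟩ (zone K)).2.2 ?_
      have h1 : d ^ i * ψ (ez K) * (d ^ i)⁻¹ =
          ψ (zp K (L.ρ ⟨h, hh⟩ (zone K)).1 (L.ρ ⟨h, hh⟩ (zone K)).2.1) := by
        rw [hpw]
        exact congrArg ψ (par_ext (by simp) (by simp [hi, map_pow, mul_pow]))
      have h2 := L.zc_spec ⟨h, hh⟩ (zone K)
      rw [← h1]
      calc h * (d ^ i)⁻¹ * (d ^ i * ψ (ez K) * (d ^ i)⁻¹) = h * ψ (ez K) * (d ^ i)⁻¹ := by group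
        _ = h * ψ (ez K) * h⁻¹ * (h * (d ^ i)⁻¹) := by group
        _ = d ^ i * ψ (ez K) * (d ^ i)⁻¹ * (h * (d ^ i)⁻¹) := by
          rw [h1]; exact congrArg (· * (h * (d ^ i)⁻¹)) h2
    obtain ⟨x, c, hc, he⟩ := L.mem_C.mp hC
    refine ⟨x, c * l₀ ^ i, mul_ne_zero hc.ne (pow_ne_zero i hl₀), ?_⟩
    rw [hth c i hc, ← mul_assoc, ← he, inv_mul_cancel_right]

end Loc

end CfsgLib.UThreeCent
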