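import Cfsg.Agent.Lib.UThreeCent.Seed

/-!
# Involution centralisers of `PGU₃(2^m)`: the map of the swapping involution is the standard one
-/

set_option autoImplicit false
set_option linter.unusedSectionVars false

namespace CfsgLib.UThreeCent

open CfsgLib.ClassicalAut (Unitary.Conj)
open CfsgLib.Classical.URoot (Par pmul pinv pone)

variable {F : Type*} [Field F] [Finite F] [CharP F 2] {q : ℕ} {K : Unitary.Conj F q}
  {G : Type*} [Group G] [Finite G] {ψ : Par K → G} {τ : F → G} {L : Loc K ψ τ}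
  {th : F → G} {w : G} {A₀ : G ⧸ L.Hg}

namespace Pair

variable (P : Pair L th w A₀)

include P

theorem gen_scl_f {l : F} (hl : l ≠ 0) {x : Par K} (hx : x ≠ pone K) :
    P.triM (scl K l x) = scl K (K.bar l)⁻¹ (P.triM x) := by
  rw [triM, triM, P.f_scl hl hx, scl_pinv]

/-- The map of the swapping involution. -/
theorem f_formula {x : Par K} (hx : x ≠ pone K) :
    (P.fM x).1.1 = x.1.1 / K.bar x.1.2 ∧ (P.fM x).1.2 = x.1.2⁻¹ := by
  obtain ⟨t, ht⟩ := exists_tr_one K
  obtain ⟨v, hv1, hv⟩ := P.exists_fixed_point ht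
  set a₀ := v.1.1 with ha₀
  set b₀ := v.1.2 with hb₀
  have hmv := tr_par v
  rw [← ha₀, ← hb₀] at hmv
  choose g hg hg1 hg2 using hv
  let xr : ∀ r, K.bar r = r → Par K := fun r hr => pmul K (zp K (r + 1) (real_add_one hr)) v
  have hxr1 : ∀ r hr, (xr r hr).1.1 = a₀ := fun r hr => by simp [xr, ha₀]
  have hxr2 : ∀ r hr, (xr r hr).1.2 = r + 1 + b₀ := fun r hr => by simp [xr, hb₀]
  have hxne : ∀ r hr, xr r hr ≠ pone K := fun r hr h => hv1 (by
    rw [← hxr1 r hr, h]; rfl)
  have hg0 : ∀ r hr, g r hr ≠ 0 := fun r hr h => one_ne_zero (α := F) (by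
    rw [← hg r hr, h, zero_mul, zero_mul])
  -- the index shift of the triangle map
  set m := a₀ * K.bar a₀ with hm
  have hmb : K.bar m = m := bar_self_mul a₀
  have hsh : ∀ r (hr : K.bar r = r), P.triM (xr r hr) =
      scl K (g r hr) (xr (r + m + 1) (by rw [map_add, map_add, map_one, hr, hmb])) := fun r hr => by
    obtain ⟨hn, hn0⟩ := nrm_real ht hr
    refine par_ext ?_ ?_
    · simp only [triM, pinv_fst, scl_fst, hxr1]
      rw [mul_comm]
      exact hg1 r hr
    · simp only [triM, pinv_snd, scl_snd, hxr2]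
      show K.bar ((P.fM (xr r hr)).1.2) = _
      have h2 := congrArg K.bar (hg2 r hr)
      rw [map_mul, map_add, hn, hr] at h2
      refine mul_right_cancel₀ hn0 (h2.trans ?_)
      linear_combination hmv - (r + m + 1 + 1 + b₀) * hg r hr - (b₀ + 1) * two_eq (F := F)
  have hm1 : m = 1 := by
    have h0 : K.bar (0 : F) = 0 := map_zero _
    obtain ⟨a, ha, hcube⟩ := P.tri_cube (hxne 0 h0)
    have hi : ∀ {l : F}, l ≠ 0 → (K.bar l)⁻¹ ≠ 0 := fun hl => inv_ne_zero ((map_ne_zero K.bar).2 hl)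
    have hrm : ∀ r, K.bar r = r → K.bar (r + m + 1) = r + m + 1 := fun r hr => by
      rw [map_add, map_add, map_one, hr, hmb]
    rw [hsh 0 h0, P.gen_scl_f (hg0 0 h0) (hxne _ (hrm _ h0)), hsh _ (hrm _ h0), scl_scl,
      P.gen_scl_f (mul_ne_zero (hi (hg0 0 h0)) (hg0 _ (hrm _ h0))) (hxne _ (hrm _ (hrm _ h0))), hsh _ (hrm _ (hrm _ h0)),
      scl_scl] at hcube
    set L' := _ * g _ _ with hL
    have h1 := congrArg (fun z : Par K => z.1.1) hcube
    have h2 := congrArg (fun z : Par K => z.1.2) hcube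
    simp only [scl_fst, scl_snd, hxr1, hxr2] at h1 h2
    have h3 : L' = a := mul_right_cancel₀ hv1 h1
    rw [h3] at h2
    have h4 := mul_left_cancel₀ (mul_ne_zero ha ((map_ne_zero K.bar).2 ha)) h2
    linear_combination h4 - (m + 1 + 1) * two_eq (F := F)
  clear hsh
  have hb0 : b₀ + K.bar b₀ = 1 := by rw [hmv, ← hm1]
  -- normalise the first coordinate to one
  obtain ⟨e, he⟩ := exists_par K (1 : F)
  have hμa : Mu K a₀ := hm1
  let y : ∀ r, K.bar r = r → Par K := fun r hr =>
    ⟨(1, b₀ + r + 1), by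
      rw [map_one, map_add, map_add, map_one, hr]
      linear_combination hb0 + (1 + r + 1) * two_eq (F := F)⟩
  have hy1 : ∀ r hr, (y r hr).1.1 = 1 := fun r hr => rfl
  have hy2 : ∀ r hr, (y r hr).1.2 = b₀ + r + 1 := fun r hr => rfl
  have hyne : ∀ r hr, y r hr ≠ pone K := fun r hr h =>
    one_ne_zero (congrArg (fun z : Par K => z.1.1) h : (1 : F) = 0)
  have hyf : ∀ r hr, (P.fM (y r hr)).1.1 = g r hr ∧
      (P.fM (y r hr)).1.2 * nrm t r = b₀ + r := fun r hr => by
    have h1 : xr r hr = scl K a₀ (y r hr) := par_ext (by simp [hxr1, hy1]) (by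
      rw [scl_snd, hxr2 r hr, hy2 r hr, show a₀ * K.bar a₀ = 1 from hμa, one_mul]; ring)
    have h2 := hg1 r hr
    have h3 := hg2 r hr
    rw [show pmul K (zp K (r + 1) (real_add_one hr)) v = scl K a₀ (y r hr) from h1,
      P.f_scl hv1 (hyne r hr), hμa.bar.inv_eq, K.bar_bar] at h2 h3
    simp only [scl_fst, scl_snd] at h2 h3
    rw [show a₀ * K.bar a₀ = 1 from hμa, one_mul] at h3
    exact ⟨mul_left_cancel₀ hv1 h2, h3⟩
  have hyeq : ∀ {r r' : F} (hr hr'), r = r' → y r hr = y r' hr' := by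
    intro r r' hr hr' h; subst h; rfl
  have hgeq : ∀ {r r' : F} (hr hr'), r = r' → g r hr = g r' hr' := by
    intro r r' hr hr' h; subst h; rfl
  -- first equation
  have E1 : ∀ r (hr : K.bar r = r) z (hz : K.bar z = z), z ≠ 0 →
      ∀ p (hp : K.bar p = p) p' (hp' : K.bar p' = p'), p = r + 1 + z * nrm t r → p' = r + z⁻¹ →
      z * nrm t r * (g r hr * g p hp) = g p' hp' := by
    intro r hr z hz h0 p hp p' hp' hpe hpe'
    obtain ⟨hn, hn0⟩ := nrm_real ht hr
    have hv' : y r hr ≠ zp K z⁻¹ (by rw [map_inv₀, hz]) := fun h =>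
      one_ne_zero (congrArg (fun z : Par K => z.1.1) h : (1 : F) = 0)
    obtain ⟨-, h⟩ := P.eq_one hz h0 (hyne r hr) hv'
    have e1 : pmul K (zp K z hz) (P.fM (y r hr)) = scl K (g r hr) (y p hp) := by
      obtain ⟨f1, f2⟩ := hyf r hr
      refine par_ext (by simp [f1, hy1]) ?_
      simp only [pmul_snd, zp_snd, zp_fst, zero_mul, add_zero, scl_snd, hy2, hpe]
      refine mul_right_cancel₀ hn0 ?_
      linear_combination f2 - (b₀ + (r + 1 + z * nrm t r) + 1) * hg r hr - two_eq (F := F)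
    have e2 : pmul K (zp K z⁻¹ (by rw [map_inv₀, hz])) (y r hr) = y p' hp' :=
      par_ext (by simp [hy1]) (by simp [hy2, hpe']; ring)
    rw [e1, e2, P.f_scl (hg0 r hr) (hyne p hp)] at h
    have h1 := congrArg (fun z : Par K => z.1.1) h
    simp only [scl_fst, pmul_fst, zp_fst, zero_add, (hyf p hp).1, (hyf p' hp').1] at h1
    have h2 : K.bar (g r hr) ≠ 0 := (map_ne_zero K.bar).2 (hg0 r hr)
    field_simp at h1
    linear_combination (g r hr * nrm t r) * h1 + g p' hp' * hg r hr
  -- second equation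
  have E2 : ∀ r (hr : K.bar r = r), ∃ M : F, ∀ z (hz : K.bar z = z), z ≠ 0 →
      ∀ p (hp : K.bar p = p) p' (hp' : K.bar p' = p'), p = r + 1 + nrm t r * z⁻¹ → p' = r + z →
      g p' hp' = g r hr + M * g p hp ∧
        (P.fM (y p' hp')).1.2 = (P.fM (y r hr)).1.2 + M * K.bar M * (P.fM (y p hp)).1.2 +
          g r hr * K.bar (M * g p hp) := by
    intro r hr
    obtain ⟨hn, hn0⟩ := nrm_real ht hr
    have hn1 : nrm t (r + 1) = nrm t r := by
      rw [nrm, nrm]; linear_combination (r + t + 1) * two_eq (F := F)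
    have hinv : pinv K (y r hr) = y (r + 1) (real_add_one hr) := by
      refine par_ext (by simp [hy1]) ?_
      simp only [pinv_snd, hy2, map_add, map_one, hr]
      linear_combination hb0 - b₀ * two_eq (F := F)
    obtain ⟨a, ha, hea⟩ := P.eq_two (hyne r hr)
    set g₁ := g (r + 1) (real_add_one hr)
    refine ⟨a * (K.bar g₁)⁻¹, fun z hz h0 p hp p' hp' hpe hpe' => ?_⟩
    have hzi : zp K z⁻¹ (by rw [map_inv₀, hz]) ≠ pone K := fun h =>
      inv_ne_zero h0 (congrArg (fun z : Par K => z.1.2) h)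
    obtain ⟨f1, f2⟩ := hyf (r + 1) (real_add_one hr)
    have e1 : pmul K (P.gM (y r hr)) (zp K z⁻¹ (by rw [map_inv₀, hz])) = scl K g₁ (y p hp) := by
      rw [gM, hinv]
      refine par_ext (by simp [f1, hy1, g₁]) ?_
      simp only [pmul_snd, pinv_snd, zp_snd, zp_fst, map_zero, mul_zero, add_zero, scl_snd, hy2,
        hpe]
      have h2 := congrArg K.bar f2
      rw [map_mul, map_add, map_add, map_one, hr, hn1, hn] at h2
      have h3 := hg (r + 1) (real_add_one hr)
      rw [hn1] at h3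
      refine mul_right_cancel₀ hn0 ?_
      linear_combination h2 + hb0 - (b₀ + (r + 1 + nrm t r * z⁻¹) + 1) * h3 -
        b₀ * two_eq (F := F)
    have hne : pmul K (P.gM (y r hr)) (zp K z⁻¹ (by rw [map_inv₀, hz])) ≠ pone K := by
      rw [e1]
      exact fun h => hyne p hp ((scl_eq_pone (hg0 _ _)).mp h)
    obtain ⟨-, h⟩ := hea _ hzi hne
    have e2 : pmul K (y r hr) (P.fM (zp K z⁻¹ (by rw [map_inv₀, hz]))) = y p' hp' := by
      rw [P.f_zp _ (inv_ne_zero h0)]
      exact par_ext (by simp [hy1]) (by simp [hy2, hpe']; ring)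
    rw [e2, e1, P.f_scl (hg0 _ _) (hyne p hp), scl_scl] at h
    constructor
    · have h1 := congrArg (fun z : Par K => z.1.1) h
      simpa [(hyf p hp).1, (hyf p' hp').1, (hyf r hr).1] using h1
    · have h1 := congrArg (fun z : Par K => z.1.2) h
      simpa [(hyf p hp).1, (hyf r hr).1] using h1
  -- the reciprocal of the first coordinate is affine
  have key : ∀ r (hr : K.bar r = r), ∃ D, ∀ s (hs : K.bar s = s), s ≠ r + 1 → (g s hs)⁻¹ = s + D := by
    intro r hr
    obtain ⟨hn, hn0⟩ := nrm_real ht hr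
    obtain ⟨M, hM⟩ := E2 r hr
    refine ⟨r + 1 + M * (g r hr)⁻¹, fun s hs hne => ?_⟩
    set d := s + r + 1 with hd
    have hd0 : d ≠ 0 := fun h => hne (by
      linear_combination h - (r + 1) * two_eq (F := F))
    have hdb : K.bar d = d := by rw [hd, map_add, map_add, map_one, hs, hr]
    set z := nrm t r / d with hzd
    have hz : K.bar z = z := by rw [hzd, map_div₀, hn, hdb]
    have hz0 : z ≠ 0 := div_ne_zero hn0 hd0
    have hpb : K.bar (r + z) = r + z := by rw [map_add, hr, hz]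
    have hpe : s = r + 1 + nrm t r * z⁻¹ := by
      rw [hzd, inv_div, ← mul_div_assoc, mul_div_cancel_left₀ d hn0, hd]
      linear_combination -(r + 1) * two_eq (F := F)
    obtain ⟨h2, -⟩ := hM z hz hz0 s hs _ hpb hpe rfl
    have h1 := E1 r hr z⁻¹ (by rw [map_inv₀, hz]) (inv_ne_zero hz0) s hs _ hpb
      (by rw [hpe]; ring) (by rw [inv_inv])
    have hzn : z⁻¹ * nrm t r = d := by
      rw [hzd, inv_div, div_mul_cancel₀ d hn0]
    rw [hzn, h2] at h1
    have hr0 := hg0 r hr
    have hs0 := hg0 s hs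
    field_simp
    rw [hd] at h1
    linear_combination -h1 - g s hs * M * two_eq (F := F)
  obtain ⟨D₀, hD₀⟩ := key 0 (map_zero _)
  obtain ⟨D₁, hD₁⟩ := key 1 (map_one _)
  obtain ⟨δ, hδ⟩ : ∃ δ, ∀ s (hs : K.bar s = s), (g s hs)⁻¹ = s + δ := by
    obtain ⟨s₀, hs₀, h00, h01⟩ : ∃ s : F, K.bar s = s ∧ s ≠ 0 ∧ s ≠ 1 := by
      have h1 := L.card_zs
      have := L.three_le
      haveI : Nontrivial (Zs K) := Finite.one_lt_card_iff_nontrivial.mp (by omega)
      obtain ⟨b, hb⟩ := exists_ne (zone K)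
      exact ⟨b.1, b.2.1, b.2.2, fun h => hb (Subtype.ext h)⟩
    have hDD : D₀ = D₁ := add_left_cancel ((hD₀ s₀ hs₀ (by rwa [zero_add])).symm.trans
      (hD₁ s₀ hs₀ (by rwa [CharTwo.add_self_eq_zero])))
    refine ⟨D₀, fun s hs => ?_⟩
    by_cases h : s = 0 + 1
    · rw [hDD]
      refine hD₁ s hs ?_
      rw [h, zero_add, CharTwo.add_self_eq_zero]
      exact one_ne_zero
    · exact hD₀ s hs h
  have hgs : ∀ s hs, g s hs * (s + δ) = 1 := fun s hs => by
    rw [← hδ s hs, mul_inv_cancel₀ (hg0 s hs)]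
  have hN : ∀ s (hs : K.bar s = s), (s + δ) * (s + K.bar δ) = nrm t s := fun s hs => by
    have h2 := congrArg K.bar (hgs s hs)
    rw [map_mul, map_add, map_one, hs] at h2
    have h1 := hgs s hs
    linear_combination -((s + δ) * (s + K.bar δ)) * hg s hs +
      nrm t s * K.bar (g s hs) * (s + K.bar δ) * h1 + nrm t s * h2
  have hν : δ * K.bar δ = nrm t 0 := by
    have := hN 0 (map_zero _); simpa using this
  have htr : δ + K.bar δ = 1 := by
    have h1 := hN 1 (map_one _)
    have h2 : nrm t 1 = nrm t 0 := by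
      rw [nrm, nrm]; linear_combination (t + 1) * two_eq (F := F)
    linear_combination h1 + h2 - hν - two_eq (F := F)
  have hδn : ∀ s, K.bar s = s → nrm t s = (s + δ) * (s + δ + 1) := fun s hs => by
    rw [← hN s hs, bar_t htr]; ring
  -- the second coordinate of the seed
  have hb : b₀ = δ := by
    have h00 : K.bar (0 : F) = 0 := map_zero _
    obtain ⟨M, hM⟩ := E2 0 h00
    obtain ⟨hn, hn0⟩ := nrm_real ht h00
    set ν := nrm t 0 with hνdef
    have hp : K.bar (1 + ν) = 1 + ν := by rw [map_add, map_one, hn]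
    obtain ⟨h1, h2⟩ := hM 1 (map_one _) one_ne_zero (1 + ν) hp 1 (map_one _) (by ring) (by ring)
    have hν' : ν = δ * (δ + 1) := by rw [← hν, bar_t htr]
    have hd0 := (root_fixed htr h00).1
    obtain ⟨-, -, hd1⟩ := root_fixed htr (map_one K.bar)
    obtain ⟨hp0, -, hp1⟩ := root_fixed htr hp
    rw [zero_add] at hd0
    have hd1' : δ + 1 ≠ 0 := by
      have := (root_fixed htr h00).2.2
      rwa [zero_add] at this
    have gG : ∀ s hs, g s hs = (s + δ)⁻¹ := fun s hs => by rw [← hδ s hs, inv_inv]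
    rw [gG, gG, gG, zero_add, hν'] at h1
    have hMe : M = (δ + 1) / δ := by
      have e : 1 + δ * (δ + 1) + δ = (δ + 1) * (δ + 1) := by ring
      rw [e, add_comm (1 : F) δ] at h1
      field_simp at h1 ⊢
      linear_combination -h1 - (δ + 1) * two_eq (F := F)
    have hMM : M * K.bar M = 1 := by
      rw [hMe, map_div₀, map_add, map_one, bar_t htr]
      field_simp
      linear_combination two_eq (F := F)
    rw [hMM, one_mul, gG, gG, zero_add, map_mul, hMe] at h2
    have f0 := (hyf 0 h00).2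
    have f1 := (hyf 1 (map_one _)).2
    have fp := (hyf (1 + ν) hp).2
    rw [hδn _ hp] at fp
    rw [hδn _ (map_one K.bar)] at f1
    rw [hδn _ h00] at f0
    simp only [zero_add, add_zero] at f0 f1 fp
    generalize (P.fM (y 1 (map_one K.bar))).1.2 = B1 at h2 f1
    generalize (P.fM (y 0 h00)).1.2 = B0 at h2 f0
    generalize (P.fM (y (1 + ν) hp)).1.2 = Bp at h2 fp
    rw [hν'] at fp
    have e1 : B1 * (δ * (δ + 1)) = b₀ + 1 := by
      linear_combination f1 - B1 * (δ + 1) * two_eq (F := F)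
    have e2 : 1 + δ * (δ + 1) + δ = (δ + 1) * (δ + 1) := by ring
    have e3 : (δ + 1) * (δ + 1) + 1 = δ * δ := by linear_combination (δ + 1) * two_eq (F := F)
    rw [e2, e3] at fp
    rw [hν', map_inv₀, map_add, map_div₀, bar_t htr, map_add, map_add, map_one, map_mul, map_add,
      map_one, bar_t htr] at h2
    have e4 : 1 + (δ + 1) * (δ + 1 + 1) + (δ + 1) = δ * δ := by
      linear_combination (2 * δ + 2) * two_eq (F := F)
    rw [e4] at h2
    have e5 : δ + 1 + 1 = δ := by linear_combination two_eq (F := F)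
    rw [e5] at h2
    field_simp at h2
    linear_combination -(δ + 1) * h2 + δ * (δ + 1) * e1 - δ * (δ + 1) * f0 - fp -
      (δ + 1) * two_eq (F := F)
  -- the general case
  have hone : ∀ r hr, (P.fM (y r hr)).1.1 = 1 / K.bar (y r hr).1.2 ∧
      (P.fM (y r hr)).1.2 = (y r hr).1.2⁻¹ := fun r hr => by
    obtain ⟨f1, f2⟩ := hyf r hr
    rw [hδn r hr, hb] at f2
    obtain ⟨k1, -, k2⟩ := root_fixed htr hr
    constructor
    · rw [f1, ← inv_inv (g r hr), hδ r hr, hy2 r hr, hb, map_add, map_add, map_one, hr, bar_t htr, one_div]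
      congr 1
      linear_combination -two_eq (F := F)
    · rw [hy2 r hr, hb]
      refine eq_inv_of_mul_eq_one_left (mul_right_cancel₀ k1 ?_)
      linear_combination f2
  by_cases ha : x.1.1 = 0
  · have hb' := bar_snd_of_fst x ha
    have h2 := snd_ne x hx
    rw [eq_zp x ha, P.f_zp hb' h2]
    simp
  · set a := x.1.1 with hadef
    set N := a * K.bar a with hNdef
    have hN0 : N ≠ 0 := mul_ne_zero ha ((map_ne_zero K.bar).2 ha)
    have hNb : K.bar N = N := bar_self_mul a
    have hxt := tr_par x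
    rw [← hadef, ← hNdef] at hxt
    set r := x.1.2 / N + b₀ + 1 with hrdef
    have hr : K.bar r = r := by
      rw [hrdef, map_add, map_add, map_one, map_div₀, hNb]
      have h3 : K.bar x.1.2 / N = x.1.2 / N + 1 := by
        field_simp
        linear_combination hxt - x.1.2 * two_eq (F := F)
      linear_combination h3 + hb0 - b₀ * two_eq (F := F) + two_eq (F := F)
    have hxs : x = scl K a (y r hr) := par_ext (by simp [hy1, ← hadef]) (by
      simp only [scl_snd, hy2, hrdef, ← hNdef]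
      field_simp
      linear_combination -N * (b₀ + 1) * two_eq (F := F))
    obtain ⟨o1, o2⟩ := hone r hr
    have hy0 : (y r hr).1.2 ≠ 0 := snd_ne _ (hyne r hr)
    have hyb : K.bar (y r hr).1.2 ≠ 0 := (map_ne_zero K.bar).2 hy0
    have hab : K.bar a ≠ 0 := (map_ne_zero K.bar).2 ha
    rw [hxs, P.f_scl ha (hyne r hr)]
    simp only [scl_fst, scl_snd, o1, o2, hy1, map_mul, map_inv₀, K.bar_bar]
    constructor <;> field_simp

end Pair

end CfsgLib.UThreeCent
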