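import Cfsg.Agent.Lib.UThreeCent.Arith

/-!
# Involution centralisers of `PGU₃(2^m)`: trivial intersections and the count of involutions
-/

set_option autoImplicit false
set_option linter.unusedSectionVars false

namespace CfsgLib.UThreeCent

open CfsgLib.ClassicalAut (Unitary.Conj)
open CfsgLib.Classical.URoot (Par pmul pinv pone)

variable {F : Type*} [Field F] [Finite F] [CharP F 2] {q : ℕ}

/-- The nonzero fixed elements. -/
abbrev Zs (K : Unitary.Conj F q) : Type _ := {b : F // K.bar b = b ∧ b ≠ 0}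

/-- The unit of `Zs`. -/
def zone (K : Unitary.Conj F q) : Zs K := ⟨1, map_one _, one_ne_zero⟩

/-- A group with the involution centraliser of `PGU₃(2^m)`. -/
structure Loc (K : Unitary.Conj F q) {G : Type*} [Group G] (ψ : Par K → G) (τ : F → G) : Prop where
  ψ_mul : ∀ x y, ψ x * ψ y = ψ (pmul K x y)
  ψ_inj : Function.Injective ψ
  τ_mul : ∀ c d, Mu K c → Mu K d → τ c * τ d = τ (c * d)
  τ_conj : ∀ c, Mu K c → ∀ x, τ c * ψ x * (τ c)⁻¹ = ψ (scl K c x)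
  τ_sep : ∀ c x, Mu K c → τ c = ψ x → c = 1
  cent : ∀ g, g * ψ (ez K) = ψ (ez K) * g ↔ ∃ x c, Mu K c ∧ g = ψ x * τ c
  one_class : ∀ t, t * t = 1 → t ≠ 1 → ∃ g, g * ψ (ez K) * g⁻¹ = t
  not_normal : ∃ g x, g * ψ x * g⁻¹ ∉ Set.range ψ
  three_le : 3 ≤ q

variable {K : Unitary.Conj F q} {G : Type*} [Group G] [Finite G] {ψ : Par K → G} {τ : F → G}

namespace Loc

variable (L : Loc K ψ τ)

include L

theorem ψ_one : ψ (pone K) = 1 := by
  have e := L.ψ_mul (pone K) (pone K)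
  rwa [pmul_one, mul_eq_left] at e

theorem ψ_inv (x : Par K) : (ψ x)⁻¹ = ψ (pinv K x) :=
  inv_eq_of_mul_eq_one_right (by rw [L.ψ_mul, pmul_pinv, L.ψ_one])

theorem ψ_eq_one {x : Par K} : ψ x = 1 ↔ x = pone K :=
  ⟨fun h => L.ψ_inj (h.trans L.ψ_one.symm), fun h => by rw [h, L.ψ_one]⟩

theorem ψ_sq {x : Par K} : ψ x * ψ x = 1 ↔ x.1.1 = 0 := by
  rw [L.ψ_mul, L.ψ_eq_one]
  constructor
  · intro h
    have h2 := congrArg (fun y : Par K => y.1.2) h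
    simp only [pmul_snd, pone_snd, CharTwo.add_self_eq_zero, zero_add] at h2
    rcases mul_eq_zero.mp h2 with h | h
    · exact h
    · exact (map_eq_zero K.bar).mp h
  · intro h
    refine par_ext (by simp [CharTwo.add_self_eq_zero]) ?_
    simp [h, CharTwo.add_self_eq_zero]

theorem ψ_four (x : Par K) : ψ x ^ 4 = 1 := by
  rw [show ψ x ^ 4 = ψ x * ψ x * (ψ x * ψ x) by simp only [pow_succ, pow_zero, one_mul, mul_assoc],
    L.ψ_mul, L.ψ_sq]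
  simp [CharTwo.add_self_eq_zero]

theorem τ_one : τ 1 = 1 := by
  have e := L.τ_mul 1 1 Mu.one Mu.one
  rwa [mul_one, mul_eq_left] at e

theorem τ_inv {c : F} (hc : Mu K c) : (τ c)⁻¹ = τ (K.bar c) :=
  inv_eq_of_mul_eq_one_right (by rw [L.τ_mul _ _ hc hc.bar, show c * K.bar c = 1 from hc, L.τ_one])

theorem τ_pow {c : F} (hc : Mu K c) (n : ℕ) : τ c ^ n = τ (c ^ n) := by
  induction n with
  | zero => rw [pow_zero, pow_zero, L.τ_one]
  | succ k ih => rw [pow_succ, ih, L.τ_mul _ _ (hc.pow k) hc, pow_succ]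

theorem τ_ψ {c : F} (hc : Mu K c) (x : Par K) : τ c * ψ x = ψ (scl K c x) * τ c := by
  rw [← L.τ_conj c hc x, inv_mul_cancel_right]

theorem form_mul {x y : Par K} {c d : F} (hc : Mu K c) (hd : Mu K d) :
    ψ x * τ c * (ψ y * τ d) = ψ (pmul K x (scl K c y)) * τ (c * d) := by
  rw [← L.ψ_mul, ← L.τ_mul c d hc hd, mul_assoc, ← mul_assoc (τ c), L.τ_ψ hc]
  group

theorem form_pow {x : Par K} {c : F} (hc : Mu K c) (n : ℕ) :
    ∃ y, (ψ x * τ c) ^ n = ψ y * τ (c ^ n) := by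
  induction n with
  | zero => exact ⟨pone K, by rw [pow_zero, pow_zero, L.ψ_one, L.τ_one, one_mul]⟩
  | succ k ih =>
    obtain ⟨y, hy⟩ := ih
    exact ⟨_, by rw [pow_succ, hy, L.form_mul (hc.pow k) hc, pow_succ]⟩

theorem form_inj {x y : Par K} {c d : F} (hc : Mu K c) (hd : Mu K d)
    (h : ψ x * τ c = ψ y * τ d) : x = y ∧ c = d := by
  have h1 : τ (c * K.bar d) = ψ (pmul K (pinv K x) y) := by
    rw [← L.τ_mul _ _ hc hd.bar, ← L.τ_inv hd, ← L.ψ_mul, ← L.ψ_inv, mul_inv_eq_iff_eq_mul,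
      mul_assoc, eq_inv_mul_iff_mul_eq, h]
  have h2 := L.τ_sep _ _ (hc.mul hd.bar) h1
  have h3 : c = d := by
    have h4 : c * K.bar d * d = d := by rw [h2, one_mul]
    rwa [mul_assoc, mul_comm (K.bar d), show d * K.bar d = 1 from hd, mul_one] at h4
  subst h3
  exact ⟨L.ψ_inj (mul_right_cancel h), rfl⟩

/-- The centraliser of the distinguished involution. -/
def Cg (_ : Loc K ψ τ) : Subgroup G := Subgroup.centralizer ({ψ (ez K)} : Set G)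

theorem mem_C {g : G} : g ∈ L.Cg ↔ ∃ x c, Mu K c ∧ g = ψ x * τ c := by
  rw [Cg, Subgroup.mem_centralizer_singleton_iff, L.cent]

theorem ψ_mem_C (x : Par K) : ψ x ∈ L.Cg :=
  L.mem_C.mpr ⟨x, 1, Mu.one, by rw [L.τ_one, mul_one]⟩

theorem τ_mem_C {c : F} (hc : Mu K c) : τ c ∈ L.Cg :=
  L.mem_C.mpr ⟨pone K, c, hc, by rw [L.ψ_one, one_mul]⟩

omit [Finite G] in
theorem sq_root {c : F} : ∀ k : ℕ, c ^ 2 ^ k = 1 → c = 1
  | 0, h => by rwa [pow_zero, pow_one] at h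
  | k + 1, h => by
    rw [pow_succ, pow_mul, pow_two] at h
    refine sq_root k (eq_of_add_eq_zero (mul_self_eq_zero.mp ?_))
    rw [CharTwo.add_mul_self, h, one_mul, CharTwo.add_self_eq_zero]

theorem twoC {g : G} (hg : g ∈ L.Cg) {k : ℕ} (hk : g ^ 2 ^ k = 1) : ∃ x, g = ψ x := by
  obtain ⟨x, c, hc, rfl⟩ := L.mem_C.mp hg
  obtain ⟨y, hy⟩ := L.form_pow (x := x) hc (2 ^ k)
  rw [hk] at hy
  have h1 : ψ (pone K) * τ 1 = ψ y * τ (c ^ 2 ^ k) := by rw [← hy, L.ψ_one, L.τ_one, one_mul]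
  have := sq_root L k (L.form_inj Mu.one (hc.pow _) h1).2.symm
  exact ⟨x, by rw [this, L.τ_one, mul_one]⟩

theorem C_comm_zp {g : G} (hg : g ∈ L.Cg) {b : F} (hb : K.bar b = b) :
    g * ψ (zp K b hb) = ψ (zp K b hb) * g := by
  obtain ⟨x, c, hc, rfl⟩ := L.mem_C.mp hg
  rw [mul_assoc, L.τ_ψ hc, ← mul_assoc, ← mul_assoc, L.ψ_mul, L.ψ_mul]
  congr 2
  exact par_ext (by simp) (by simp [show c * K.bar c = 1 from hc, add_comm])

theorem zp_sq {b : F} (hb : K.bar b = b) : ψ (zp K b hb) * ψ (zp K b hb) = 1 := L.ψ_sq.mpr rfl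

theorem zp_ne {b : F} (hb : K.bar b = b) (h0 : b ≠ 0) : ψ (zp K b hb) ≠ 1 := fun h =>
  h0 (by simpa using congrArg (fun y : Par K => y.1.2) (L.ψ_eq_one.mp h))

theorem C_eq {b : F} (hb : K.bar b = b) (h0 : b ≠ 0) {g : G}
    (hg : g * ψ (zp K b hb) = ψ (zp K b hb) * g) : g ∈ L.Cg := by
  classical
  obtain ⟨h, hh⟩ := L.one_class _ (L.zp_sq hb) (L.zp_ne hb h0)
  set D := Subgroup.centralizer ({ψ (zp K b hb)} : Set G)
  have hle : L.Cg ≤ D := fun x hx => Subgroup.mem_centralizer_singleton_iff.mpr (L.C_comm_zp hx hb)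
  have hmem : ∀ x : D, h⁻¹ * x * h ∈ L.Cg := fun x => by
    have hx := Subgroup.mem_centralizer_singleton_iff.mp x.2
    refine Subgroup.mem_centralizer_singleton_iff.mpr ?_
    rw [← hh] at hx
    calc h⁻¹ * (x : G) * h * ψ (ez K) = h⁻¹ * ((x : G) * (h * ψ (ez K) * h⁻¹)) * h := by group
      _ = h⁻¹ * (h * ψ (ez K) * h⁻¹ * x) * h := by rw [hx]
      _ = ψ (ez K) * (h⁻¹ * x * h) := by group
  have hc : Nat.card D ≤ Nat.card L.Cg :=
    Nat.card_le_card_of_injective (fun x => (⟨_, hmem x⟩ : L.Cg)) fun x y e =>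
      Subtype.ext (mul_left_cancel (mul_right_cancel (congrArg Subtype.val e)))
  rw [Subgroup.eq_of_le_of_card_ge hle hc]
  exact Subgroup.mem_centralizer_singleton_iff.mpr hg

/-- The root group. -/
def Pg : Subgroup G where
  carrier := Set.range ψ
  one_mem' := ⟨pone K, L.ψ_one⟩
  mul_mem' := by rintro _ _ ⟨x, rfl⟩ ⟨y, rfl⟩; exact ⟨_, (L.ψ_mul x y).symm⟩
  inv_mem' := by rintro _ ⟨x, rfl⟩; exact ⟨_, (L.ψ_inv x).symm⟩

/-- The normaliser of the root group. -/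
def Hg : Subgroup G := Subgroup.normalizer (L.Pg : Set G)

theorem mem_Pg {g : G} : g ∈ L.Pg ↔ ∃ x, g = ψ x :=
  ⟨fun ⟨x, h⟩ => ⟨x, h.symm⟩, fun ⟨x, h⟩ => ⟨x, h.symm⟩⟩

theorem mem_H_of {g : G} (h : ∀ x, ∃ y, g * ψ x * g⁻¹ = ψ y) : g ∈ L.Hg := by
  have hle : L.Pg.map (MulAut.conj g).toMonoidHom ≤ L.Pg := by
    rintro _ ⟨_, ⟨x, rfl⟩, rfl⟩
    exact L.mem_Pg.mpr (h x)
  have he := Subgroup.eq_of_le_of_card_ge hle
    (Subgroup.card_map_of_injective (MulAut.conj g).injective).ge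
  refine Subgroup.mem_normalizer_iff.mpr fun x => ⟨fun hx => ?_, fun hx => ?_⟩
  · obtain ⟨y, rfl⟩ := L.mem_Pg.mp hx
    exact L.mem_Pg.mpr (h y)
  · rw [← he] at hx
    obtain ⟨y, hy, hye⟩ := hx
    have : y = x := (MulAut.conj g).injective hye
    exact this ▸ hy

theorem H_conj {g : G} (hg : g ∈ L.Hg) (x : Par K) : ∃ y, g * ψ x * g⁻¹ = ψ y :=
  L.mem_Pg.mp ((Subgroup.mem_normalizer_iff.mp hg (ψ x)).mp ⟨x, rfl⟩)

theorem conj_mem_H {g : G} {b b' : F} (hb : K.bar b = b) (hb' : K.bar b' = b') (h0 : b' ≠ 0)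
    (h : g * ψ (zp K b hb) * g⁻¹ = ψ (zp K b' hb')) : g ∈ L.Hg := L.mem_H_of fun x => by
  have hz : ψ x * ψ (zp K b hb) = ψ (zp K b hb) * ψ x := L.C_comm_zp (L.ψ_mem_C x) hb
  refine L.twoC (L.C_eq hb' h0 ?_) (k := 2) ?_
  · rw [← h]
    calc g * ψ x * g⁻¹ * (g * ψ (zp K b hb) * g⁻¹) = g * (ψ x * ψ (zp K b hb)) * g⁻¹ := by group
      _ = g * (ψ (zp K b hb) * ψ x) * g⁻¹ := by rw [hz]
      _ = g * ψ (zp K b hb) * g⁻¹ * (g * ψ x * g⁻¹) := by group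
  · show (g * ψ x * g⁻¹) ^ 4 = 1
    rw [conj_pow, L.ψ_four, mul_one, mul_inv_cancel]

theorem TI {g : G} {x y : Par K} (hx : x ≠ pone K) (h : g * ψ x * g⁻¹ = ψ y) : g ∈ L.Hg := by
  have key : ∀ {u v : Par K}, u.1.1 = 0 → u ≠ pone K → g * ψ u * g⁻¹ = ψ v → g ∈ L.Hg := by
    intro u v hu hne he
    have hv : v.1.1 = 0 := L.ψ_sq.mp (by
      rw [← he]
      calc g * ψ u * g⁻¹ * (g * ψ u * g⁻¹) = g * (ψ u * ψ u) * g⁻¹ := by group
        _ = 1 := by rw [L.ψ_sq.mpr hu, mul_one, mul_inv_cancel])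
    have hv0 : v.1.2 ≠ 0 := by
      refine snd_ne v fun e => hne (L.ψ_eq_one.mp ?_)
      rw [e, L.ψ_one, mul_inv_eq_one, mul_eq_left] at he
      exact he
    refine L.conj_mem_H (bar_snd_of_fst u hu) (bar_snd_of_fst v hv) hv0 ?_
    rw [← eq_zp u hu, ← eq_zp v hv]
    exact he
  by_cases ha : x.1.1 = 0
  · exact key ha hx h
  · refine key (u := pmul K x x) (v := pmul K y y) (by simp [CharTwo.add_self_eq_zero])
      (fun e => ha ?_) ?_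
    · exact L.ψ_sq.mp (by rw [L.ψ_mul, e, L.ψ_one])
    · rw [← L.ψ_mul, ← L.ψ_mul, ← h]; group

theorem C_le_H : L.Cg ≤ L.Hg := fun g hg => by
  refine L.conj_mem_H (map_one _) (map_one _) one_ne_zero (show g * ψ (ez K) * g⁻¹ = ψ (ez K) from ?_)
  rw [Subgroup.mem_centralizer_singleton_iff.mp hg, mul_inv_cancel_right]

theorem ψ_mem_H (x : Par K) : ψ x ∈ L.Hg := L.C_le_H (L.ψ_mem_C x)

theorem zc_exists {g : G} (hg : g ∈ L.Hg) (b : Zs K) :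
    ∃ b' : Zs K, g * ψ (zp K b.1 b.2.1) * g⁻¹ = ψ (zp K b'.1 b'.2.1) := by
  obtain ⟨y, hy⟩ := L.H_conj hg (zp K b.1 b.2.1)
  have ha : y.1.1 = 0 := L.ψ_sq.mp (by
    rw [← hy]
    calc g * ψ (zp K b.1 b.2.1) * g⁻¹ * (g * ψ (zp K b.1 b.2.1) * g⁻¹)
        = g * (ψ (zp K b.1 b.2.1) * ψ (zp K b.1 b.2.1)) * g⁻¹ := by group
      _ = 1 := by rw [L.zp_sq, mul_one, mul_inv_cancel])
  refine ⟨⟨y.1.2, bar_snd_of_fst y ha, snd_ne y fun e => L.zp_ne b.2.1 b.2.2 ?_⟩, ?_⟩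
  · have h1 : g * ψ (zp K b.1 b.2.1) * g⁻¹ = 1 := hy.trans ((congrArg ψ e).trans L.ψ_one)
    rwa [mul_inv_eq_one, mul_eq_left] at h1
  · exact hy.trans (congrArg ψ (eq_zp y ha))

theorem zs_ext {b b' : Zs K} (h : ψ (zp K b.1 b.2.1) = ψ (zp K b'.1 b'.2.1)) : b = b' :=
  Subtype.ext (by simpa using congrArg (fun y : Par K => y.1.2) (L.ψ_inj h))

/-- The action of `H` on the nonzero fixed elements. -/
noncomputable def zc (h : L.Hg) (b : Zs K) : Zs K := (L.zc_exists h.2 b).choose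

theorem zc_spec (h : L.Hg) (b : Zs K) :
    (h : G) * ψ (zp K b.1 b.2.1) * (h : G)⁻¹ = ψ (zp K (L.zc h b).1 (L.zc h b).2.1) :=
  (L.zc_exists h.2 b).choose_spec

theorem zc_eq {h : L.Hg} {b b' : Zs K}
    (e : (h : G) * ψ (zp K b.1 b.2.1) * (h : G)⁻¹ = ψ (zp K b'.1 b'.2.1)) : L.zc h b = b' :=
  L.zs_ext ((L.zc_spec h b).symm.trans e)

/-- The action as a homomorphism. -/
noncomputable def ρ : L.Hg →* Equiv.Perm (Zs K) where
  toFun h :=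
    { toFun := L.zc h
      invFun := L.zc h⁻¹
      left_inv := fun b => L.zc_eq (by rw [← L.zc_spec h b, Subgroup.coe_inv]; group)
      right_inv := fun b => L.zc_eq (by rw [← L.zc_spec h⁻¹ b, Subgroup.coe_inv]; group) }
  map_one' := Equiv.ext fun b => L.zc_eq (by simp)
  map_mul' h h' := Equiv.ext fun b => L.zc_eq (by
    show ((h * h' : L.Hg) : G) * _ * _ = ψ (zp K (L.zc h (L.zc h' b)).1 _)
    rw [← L.zc_spec h (L.zc h' b), ← L.zc_spec h' b, Subgroup.coe_mul]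
    group)

theorem ρ_apply (h : L.Hg) (b : Zs K) : L.ρ h b = L.zc h b := rfl

theorem ρ_fix {h : L.Hg} {b : Zs K} (e : L.ρ h b = b) : (h : G) ∈ L.Cg := by
  refine L.C_eq b.2.1 b.2.2 ?_
  have h1 := L.zc_spec h b
  rw [← ρ_apply, e, mul_inv_eq_iff_eq_mul] at h1
  exact h1

theorem ρ_C {h : L.Hg} (e : (h : G) ∈ L.Cg) : L.ρ h = 1 := Equiv.ext fun b => L.zc_eq (by
  show _ = ψ (zp K b.1 _)
  rw [L.C_comm_zp e b.2.1, mul_inv_cancel_right])

theorem ρ_trans (b : Zs K) : ∃ h : L.Hg, L.ρ h (zone K) = b := by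
  obtain ⟨g, hg⟩ := L.one_class _ (L.zp_sq b.2.1) (L.zp_ne b.2.1 b.2.2)
  have hH : g ∈ L.Hg := L.conj_mem_H (map_one _) b.2.1 b.2.2 hg
  exact ⟨⟨g, hH⟩, L.zc_eq hg⟩

theorem ρ_pow (h : L.Hg) : L.ρ h ^ (q - 1) = 1 := by
  classical
  have hcard : Nat.card L.ρ.range = q - 1 := by
    have hb : Function.Bijective fun σ : L.ρ.range => (σ : Equiv.Perm (Zs K)) (zone K) := by
      refine ⟨?_, fun b => ?_⟩
      · rintro ⟨_, h1, rfl⟩ ⟨_, h2, rfl⟩ e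
        have e' : L.ρ (h2⁻¹ * h1) (zone K) = zone K := by
          rw [map_mul, Equiv.Perm.mul_apply, show L.ρ h1 (zone K) = L.ρ h2 (zone K) from e,
            ← Equiv.Perm.mul_apply, ← map_mul, inv_mul_cancel, map_one, Equiv.Perm.one_apply]
        have h3 := L.ρ_C (L.ρ_fix e')
        rw [map_mul, map_inv, inv_mul_eq_one] at h3
        exact Subtype.ext h3.symm
      · obtain ⟨h, hh⟩ := L.ρ_trans b
        exact ⟨⟨L.ρ h, h, rfl⟩, hh⟩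
    rw [Nat.card_congr (Equiv.ofBijective _ hb)]
    have h1 := CfsgLib.Classical.URoot.card_fix K
    cases nonempty_fintype F
    rw [Nat.card_eq_fintype_card, Fintype.card_subtype] at h1 ⊢
    have h2 : (Finset.univ.filter fun c : F => K.bar c = c) =
        insert 0 (Finset.univ.filter fun c : F => K.bar c = c ∧ c ≠ 0) := by
      ext c
      by_cases hc : c = 0 <;> simp [hc]
    rw [h2, Finset.card_insert_of_notMem (by simp)] at h1
    omega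
  have h1 := pow_card_eq_one' (x := (⟨L.ρ h, h, rfl⟩ : L.ρ.range))
  rw [hcard] at h1
  exact congrArg Subtype.val h1

theorem odd_C {h : G} (hh : h ∈ L.Hg) (h1 : h ^ (q + 1) = 1) : h ∈ L.Cg := by
  refine L.ρ_fix (h := ⟨h, hh⟩) (b := zone K) ?_
  have h2 : L.ρ ⟨h, hh⟩ ^ (q + 1) = 1 := by
    rw [← map_pow, show (⟨h, hh⟩ : L.Hg) ^ (q + 1) = 1 from Subtype.ext h1, map_one]
  have h3 : L.ρ ⟨h, hh⟩ = 1 := orderOf_eq_one_iff.mp (Nat.dvd_one.mp (by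
    rw [← (coprime_pm K).gcd_eq_one]
    exact Nat.dvd_gcd (orderOf_dvd_of_pow_eq_one (L.ρ_pow _)) (orderOf_dvd_of_pow_eq_one h2)))
  rw [h3, Equiv.Perm.one_apply]

theorem card_zs : Nat.card (Zs K) = q - 1 := by
  cases nonempty_fintype F
  classical
  have h1 := CfsgLib.Classical.URoot.card_fix K
  rw [Nat.card_eq_fintype_card, Fintype.card_subtype] at h1 ⊢
  have h2 : (Finset.univ.filter fun c : F => K.bar c = c) =
      insert 0 (Finset.univ.filter fun c : F => K.bar c = c ∧ c ≠ 0) := by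
    ext c
    by_cases hc : c = 0 <;> simp [hc]
  rw [h2, Finset.card_insert_of_notMem (by simp)] at h1
  omega

theorem two_H {g : G} (hg : g ∈ L.Hg) {k : ℕ} (hk : g ^ 2 ^ k = 1) : ∃ x, g = ψ x := by
  classical
  cases nonempty_fintype F
  have hodd : ¬ 2 ∣ Fintype.card (Zs K) := by
    rw [← Nat.card_eq_fintype_card, L.card_zs]
    have := q_even K
    have := L.three_le
    exact (Nat.Even.sub_odd (by omega) (q_even K) odd_one).not_two_dvd_nat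
  haveI : Fact (Nat.Prime 2) := ⟨Nat.prime_two⟩
  obtain ⟨b, hb⟩ := Equiv.Perm.exists_fixed_point_of_prime hodd (n := k) (σ := L.ρ ⟨g, hg⟩)
    (by rw [← map_pow, show (⟨g, hg⟩ : L.Hg) ^ 2 ^ k = 1 from Subtype.ext hk, map_one])
  exact L.twoC (L.ρ_fix hb) hk

/-! ### Points -/

/-- The base point. -/
def pt : G ⧸ L.Hg := ((1 : G) : G ⧸ L.Hg)

theorem fix_pt {g : G} : g • L.pt = L.pt ↔ g ∈ L.Hg := by
  show ((g * 1 : G) : G ⧸ L.Hg) = ((1 : G) : G ⧸ L.Hg) ↔ _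
  rw [QuotientGroup.eq, mul_one, mul_one, inv_mem_iff]

theorem exists_rep (B : G ⧸ L.Hg) : ∃ g : G, g • L.pt = B := by
  induction B using QuotientGroup.induction_on with
  | H g => exact ⟨g, by show ((g * 1 : G) : G ⧸ L.Hg) = _; rw [mul_one]⟩

theorem fix_rep {g t : G} : t • (g • L.pt) = g • L.pt ↔ g⁻¹ * t * g ∈ L.Hg := by
  rw [← L.fix_pt, mul_smul, mul_smul, inv_smul_eq_iff]

theorem inv_P {t : G} (ht : t * t = 1) (h : t ∈ L.Hg) : ∃ x, t = ψ x :=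
  L.two_H h (k := 1) (by rw [pow_one, pow_two, ht])

theorem inv_unique {t : G} (ht : t * t = 1) (h1 : t ≠ 1) {B B' : G ⧸ L.Hg} (hB : t • B = B)
    (hB' : t • B' = B') : B = B' := by
  obtain ⟨g, rfl⟩ := L.exists_rep B
  obtain ⟨g', rfl⟩ := L.exists_rep B'
  have hs : ∀ u : G, u⁻¹ * t * u * (u⁻¹ * t * u) = 1 := fun u => by
    calc u⁻¹ * t * u * (u⁻¹ * t * u) = u⁻¹ * (t * t) * u := by group
      _ = 1 := by rw [ht, mul_one, inv_mul_cancel]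
  obtain ⟨x, hx⟩ := L.inv_P (hs g) (L.fix_rep.mp hB)
  obtain ⟨y, hy⟩ := L.inv_P (hs g') (L.fix_rep.mp hB')
  have hH : g'⁻¹ * g ∈ L.Hg := by
    refine L.TI (x := x) (y := y) (fun e => h1 ?_) ?_
    · rw [e, L.ψ_one] at hx
      calc t = g * (g⁻¹ * t * g) * g⁻¹ := by group
        _ = 1 := by rw [hx, mul_one, mul_inv_cancel]
    · rw [← hx, ← hy]; group
  rw [← inv_smul_eq_iff.mp (show g'⁻¹ • (g • L.pt) = L.pt by rw [← mul_smul]; exact L.fix_pt.mpr hH)]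

theorem exists_inv_fix {t : G} (ht : t * t = 1) (h1 : t ≠ 1) : ∃ B : G ⧸ L.Hg, t • B = B := by
  obtain ⟨g, hg⟩ := L.one_class t ht h1
  refine ⟨g • L.pt, L.fix_rep.mpr ?_⟩
  rw [← hg, show g⁻¹ * (g * ψ (ez K) * g⁻¹) * g = ψ (ez K) by group]
  exact L.ψ_mem_H _

theorem semireg {x : Par K} {B : G ⧸ L.Hg} (hx : x ≠ pone K) (h : ψ x • B = B) : B = L.pt := by
  obtain ⟨g, rfl⟩ := L.exists_rep B
  obtain ⟨y, hy⟩ := L.two_H (L.fix_rep.mp h) (k := 2) (by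
    show (g⁻¹ * ψ x * g) ^ 4 = 1
    have h4 := conj_pow (a := g⁻¹) (b := ψ x) (i := 4)
    rw [inv_inv] at h4
    rw [h4, L.ψ_four, mul_one, inv_mul_cancel])
  refine L.fix_pt.mpr ((inv_mem_iff (x := g)).mp (L.TI (x := x) (y := y) hx ?_))
  rw [inv_inv]
  exact hy

theorem exists_other : ∃ A : G ⧸ L.Hg, A ≠ L.pt := by
  obtain ⟨g, x, hP⟩ := L.not_normal
  refine ⟨g • L.pt, fun h => hP ?_⟩
  obtain ⟨y, hy⟩ := L.H_conj (L.fix_pt.mp h) x
  exact ⟨y, hy.symm⟩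

theorem stabP {x : Par K} {A : G ⧸ L.Hg} (hA : A ≠ L.pt) (h : ψ x • A = A) : x = pone K := by
  by_contra hx
  exact hA (L.semireg hx h)

theorem C_stab_pow {e : G} {A : G ⧸ L.Hg} (hA : A ≠ L.pt) (he : e ∈ L.Cg) (h : e • A = A) :
    e ^ (q + 1) = 1 := by
  obtain ⟨x, c, hc, rfl⟩ := L.mem_C.mp he
  obtain ⟨y, hy⟩ := L.form_pow (x := x) hc (q + 1)
  rw [hc.pow_succ, L.τ_one, mul_one] at hy
  have h2 : ψ y • A = A := by
    rw [← hy]
    exact MulAction.mem_stabilizer_iff.mp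
      (pow_mem (MulAction.mem_stabilizer_iff.mpr h) (q + 1))
  rw [hy, L.stabP hA h2, L.ψ_one]

theorem C_stab_comm {e e' : G} {A : G ⧸ L.Hg} (hA : A ≠ L.pt) (he : e ∈ L.Cg) (h : e • A = A)
    (he' : e' ∈ L.Cg) (h' : e' • A = A) : e * e' = e' * e := by
  obtain ⟨x, c, hc, hxe⟩ := L.mem_C.mp he
  obtain ⟨x', c', hc', hxe'⟩ := L.mem_C.mp he'
  have h1 : e * e' = ψ (pmul K x (scl K c x')) * τ (c * c') := by rw [hxe, hxe', L.form_mul hc hc']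
  have h2 : e' * e = ψ (pmul K x' (scl K c' x)) * τ (c' * c) := by rw [hxe, hxe', L.form_mul hc' hc]
  set u := pmul K x (scl K c x')
  set v := pmul K x' (scl K c' x)
  have h3 : ψ (pmul K u (pinv K v)) • A = A := by
    rw [← L.ψ_mul, ← L.ψ_inv]
    have h4 : e * e' * (e' * e)⁻¹ = ψ u * (ψ v)⁻¹ := by rw [h1, h2, mul_comm c' c]; group
    rw [← h4, mul_smul, mul_smul,
      show (e' * e)⁻¹ • A = A by rw [inv_smul_eq_iff, mul_smul, h, h'], h', h]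
  have h5 : ψ u = ψ v := by
    have := L.stabP hA h3
    rw [← L.ψ_eq_one, ← L.ψ_mul, ← L.ψ_inv, mul_inv_eq_one] at this
    exact this
  rw [h1, h2, h5, mul_comm c]

theorem no_inverted {e t : G} {A : G ⧸ L.Hg} (hA : A ≠ L.pt) (he : e ∈ L.Cg) (h : e • A = A)
    (ht : t * t = 1) (hte : t * e * t = e⁻¹) : e = 1 := by
  classical
  haveI : Fact (Nat.Prime 2) := ⟨Nat.prime_two⟩
  have hpow := L.C_stab_pow hA he h
  let S := {B : G ⧸ L.Hg // e • B = B}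
  haveI : Fintype S := Fintype.ofFinite S
  set z := ψ (ez K) with hz
  have hez : e * z = z * e := Subgroup.mem_centralizer_singleton_iff.mp he
  have hzz : z * z = 1 := L.ψ_sq.mpr rfl
  have hzS : ∀ B : S, e • (z • B.1) = z • B.1 := fun B => by
    rw [← mul_smul, hez, mul_smul, B.2]
  let σ : Function.End S := fun B => ⟨z • B.1, hzS B⟩
  have hσ : σ ^ 2 ^ 1 = 1 := by
    funext B
    refine Subtype.ext ?_
    show z • z • B.1 = B.1
    rw [← mul_smul, hzz, one_smul]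
  have hfix : Fintype.card σ.fixedPoints = 1 := by
    rw [Fintype.card_eq_one_iff]
    refine ⟨⟨⟨L.pt, L.fix_pt.mpr (L.C_le_H he)⟩, Subtype.ext (L.fix_pt.mpr (L.ψ_mem_H _))⟩, fun B => ?_⟩
    refine Subtype.ext (Subtype.ext (L.semireg (x := ez K) (fun h0 => ?_) (congrArg Subtype.val B.2)))
    simpa using congrArg (fun y : Par K => y.1.2) h0
  have hmod := Equiv.Perm.card_fixedPoints_modEq hσ
  rw [hfix] at hmod
  have hodd : ¬ 2 ∣ Fintype.card S := fun hd => by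
    have := (Nat.modEq_zero_iff_dvd.mpr hd).symm.trans hmod
    simp [Nat.ModEq] at this
  have htS : ∀ B : S, e • (t • B.1) = t • B.1 := fun B => by
    have h1 : e * t = t * e⁻¹ := by rw [← hte, ← mul_assoc, ← mul_assoc, ht, one_mul]
    rw [← mul_smul, h1, mul_smul, inv_smul_eq_iff.mpr B.2.symm]
  let π : Equiv.Perm S :=
    { toFun := fun B => ⟨t • B.1, htS B⟩
      invFun := fun B => ⟨t • B.1, htS B⟩
      left_inv := fun B => Subtype.ext (by show t • t • B.1 = B.1; rw [← mul_smul, ht, one_smul])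
      right_inv := fun B => Subtype.ext (by show t • t • B.1 = B.1; rw [← mul_smul, ht, one_smul]) }
  obtain ⟨B, hB⟩ := Equiv.Perm.exists_fixed_point_of_prime hodd (n := 1) (σ := π) (by
    refine Equiv.ext fun B => Subtype.ext ?_
    show t • t • B.1 = B.1
    rw [← mul_smul, ht, one_smul])
  have htB : t • B.1 = B.1 := congrArg Subtype.val hB
  obtain ⟨g, hg⟩ := L.exists_rep B.1
  have heH : g⁻¹ * e * g ∈ L.Hg := L.fix_rep.mp (by rw [hg]; exact B.2)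
  have htH : g⁻¹ * t * g ∈ L.Hg := L.fix_rep.mp (by rw [hg]; exact htB)
  obtain ⟨x, hx⟩ := L.inv_P (by
    calc g⁻¹ * t * g * (g⁻¹ * t * g) = g⁻¹ * (t * t) * g := by group
      _ = 1 := by rw [ht, mul_one, inv_mul_cancel]) htH
  obtain ⟨y, hy⟩ := L.H_conj heH x
  set d := g⁻¹ * e * g
  have h2 : d * d = ψ (pmul K y (pinv K x)) := by
    rw [← L.ψ_mul, ← L.ψ_inv, ← hy, ← hx]
    show d * d = d * (g⁻¹ * t * g) * d⁻¹ * (g⁻¹ * t * g)⁻¹
    have h3 : (g⁻¹ * t * g) * d⁻¹ * (g⁻¹ * t * g)⁻¹ = d := by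
      show (g⁻¹ * t * g) * (g⁻¹ * e * g)⁻¹ * (g⁻¹ * t * g)⁻¹ = g⁻¹ * e * g
      have h4 : t * e⁻¹ * t = e := by
        rw [← hte]
        calc t * (t * e * t) * t = t * t * e * (t * t) := by group
          _ = e := by rw [ht, one_mul, mul_one]
      calc (g⁻¹ * t * g) * (g⁻¹ * e * g)⁻¹ * (g⁻¹ * t * g)⁻¹ = g⁻¹ * (t * e⁻¹ * t⁻¹) * g := by group
        _ = g⁻¹ * e * g := by rw [inv_eq_of_mul_eq_one_right ht, h4]
    rw [mul_assoc d, mul_assoc d, h3]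
  have h5 : (d * d) ^ 4 = 1 := by rw [h2]; exact L.ψ_four _
  have h6 : d ^ (q + 1) = 1 := by
    have h4 := conj_pow (a := g⁻¹) (b := e) (i := q + 1)
    rw [inv_inv] at h4
    rw [h4, hpow, mul_one, inv_mul_cancel]
  have h7 : d = 1 := orderOf_eq_one_iff.mp (Nat.dvd_one.mp (by
    have h8 : Nat.Coprime (q + 1) 8 :=
      show Nat.Coprime (q + 1) (2 ^ 3) from Nat.Coprime.pow_right _ (q_succ_odd K).coprime_two_right
    rw [← h8.gcd_eq_one]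
    refine Nat.dvd_gcd (orderOf_dvd_of_pow_eq_one h6) (orderOf_dvd_of_pow_eq_one ?_)
    rw [← h5, ← pow_two, ← pow_mul]))
  have h9 : e = g * d * g⁻¹ := by simp only [d]; group
  rw [h9, h7, mul_one, mul_inv_cancel]

/-- Elements of `C` fixing a point are centralised by the swapping involutions. -/
theorem swap_comm {e t : G} {A : G ⧸ L.Hg} (hA : A ≠ L.pt) (he : e ∈ L.Cg) (h : e • A = A)
    (ht : t * t = 1) (htA : t • L.pt = A) : t * e * t = e := by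
  have hti : t⁻¹ = t := inv_eq_of_mul_eq_one_right ht
  have htA' : t • A = L.pt := by rw [← htA, ← mul_smul, ht, one_smul]
  have heq := L.fix_pt.mpr (L.C_le_H he)
  set e' := t * e * t with he'
  have he'H : e' ∈ L.Hg := L.fix_pt.mp (by rw [mul_smul, mul_smul, htA, h, htA'])
  have he'A : e' • A = A := by rw [mul_smul, mul_smul, htA', heq, htA]
  have he'C : e' ∈ L.Cg := by
    refine L.odd_C he'H ?_
    have := conj_pow (a := t) (b := e) (i := q + 1)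
    rw [hti] at this
    rw [this, L.C_stab_pow hA he h, mul_one, ht]
  have hx := L.no_inverted hA (L.Cg.mul_mem (L.Cg.inv_mem he) he'C)
    (show (e⁻¹ * e') • A = A by rw [mul_smul, he'A, inv_smul_eq_iff, h]) ht ?_
  · rwa [inv_mul_eq_one, eq_comm] at hx
  have hc := L.C_stab_comm hA he h he'C he'A
  rw [he'] at hc ⊢
  calc t * (e⁻¹ * (t * e * t)) * t = (t * e⁻¹ * t) * (e * (t * t)) := by group
    _ = (t * e * t)⁻¹ * e := by rw [ht, mul_one, mul_inv_rev, mul_inv_rev, hti, mul_assoc t]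
    _ = (e⁻¹ * (t * e * t))⁻¹ := by group

/-- Involutions swapping the base point with a given point. -/
abbrev Sw (A : G ⧸ L.Hg) : Type _ := {t : G // t * t = 1 ∧ t • L.pt = A}

theorem sw_ne {A : G ⧸ L.Hg} (hA : A ≠ L.pt) (t : L.Sw A) : t.1 ≠ 1 := fun h =>
  hA (by rw [← t.2.2, h, one_smul])

theorem sw_mul {A : G ⧸ L.Hg} (t t' : L.Sw A) : t.1 * t'.1 ∈ L.Hg ∧ (t.1 * t'.1) • A = A := by
  constructor
  · refine L.fix_pt.mp ?_
    have h1 : t.1 • t.1 • L.pt = t.1 • A := congrArg (t.1 • ·) t.2.2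
    rw [← mul_smul t.1 t.1, t.2.1, one_smul] at h1
    rw [mul_smul, t'.2.2, ← h1]
  · have h1 : t'.1 • t'.1 • L.pt = t'.1 • A := congrArg (t'.1 • ·) t'.2.2
    rw [← mul_smul t'.1 t'.1, t'.2.1, one_smul] at h1
    rw [mul_smul, ← h1, t.2.2]

/-- The value on the centre of the product of two swappers. -/
noncomputable def swVal {A : G ⧸ L.Hg} (t₀ t : L.Sw A) : Zs K :=
  L.ρ ⟨t₀.1 * t.1, (L.sw_mul t₀ t).1⟩ (zone K)

theorem C_conj {g e : G} (hg : g ∈ L.Hg) (he : e ∈ L.Cg) : g⁻¹ * e * g ∈ L.Cg := by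
  refine L.ρ_fix (h := ⟨g, hg⟩⁻¹ * ⟨e, L.C_le_H he⟩ * ⟨g, hg⟩) (b := zone K) ?_
  rw [map_mul, map_mul, L.ρ_C (h := ⟨e, L.C_le_H he⟩) he, mul_one, ← map_mul, inv_mul_cancel,
    map_one, Equiv.Perm.one_apply]

theorem swVal_inj {A : G ⧸ L.Hg} (hA : A ≠ L.pt) (t₀ : L.Sw A) :
    Function.Injective (L.swVal t₀) := by
  intro t t' h
  have ht0 := t₀.2.1
  set d : G := t₀.1 * t.1
  set d' : G := t₀.1 * t'.1
  obtain ⟨hd, hdA⟩ := L.sw_mul t₀ t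
  obtain ⟨hd', hd'A⟩ := L.sw_mul t₀ t'
  have hcC : d⁻¹ * d' ∈ L.Cg := by
    refine L.ρ_fix (h := ⟨d, hd⟩⁻¹ * ⟨d', hd'⟩) (b := zone K) ?_
    rw [map_mul, Equiv.Perm.mul_apply, map_inv, Equiv.Perm.inv_def, Equiv.symm_apply_eq]
    exact h.symm
  set c := d⁻¹ * d' with hc
  have hcA : c • A = A := by rw [mul_smul, hd'A, inv_smul_eq_iff, hdA]
  have h1 := L.swap_comm hA hcC hcA ht0 t₀.2.2
  have hinv : ∀ s : L.Sw A, t₀.1 * (t₀.1 * s.1) * t₀.1 = (t₀.1 * s.1)⁻¹ := fun s => by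
    rw [mul_inv_rev, inv_eq_of_mul_eq_one_right ht0, inv_eq_of_mul_eq_one_right s.2.1,
      ← mul_assoc t₀.1, ht0, one_mul]
  have h2 : d * c * d⁻¹ = c⁻¹ := by
    have h3 : t₀.1 * c * t₀.1 = d * d'⁻¹ := by
      calc t₀.1 * c * t₀.1 = (t₀.1 * d⁻¹ * t₀.1) * (t₀.1 * d' * t₀.1) := by
            rw [hc]
            calc t₀.1 * (d⁻¹ * d') * t₀.1 = t₀.1 * d⁻¹ * 1 * d' * t₀.1 := by group
              _ = t₀.1 * d⁻¹ * (t₀.1 * t₀.1) * d' * t₀.1 := by rw [ht0]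
              _ = _ := by group
        _ = d * d'⁻¹ := by
            rw [hinv t', ← hinv t]
            congr 1
            calc t₀.1 * (t₀.1 * d * t₀.1) * t₀.1 = t₀.1 * t₀.1 * d * (t₀.1 * t₀.1) := by group
              _ = d := by rw [ht0, one_mul, mul_one]
    rw [h1] at h3
    calc d * c * d⁻¹ = (d' * d⁻¹) := by rw [hc]; group
      _ = c⁻¹ := by rw [h3]; group
  have hiter : ∀ j : ℕ, d ^ (2 * j + 1) * c * (d ^ (2 * j + 1))⁻¹ = c⁻¹ := by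
    intro j
    induction j with
    | zero => simpa using h2
    | succ j ih =>
      rw [show 2 * (j + 1) + 1 = 2 * j + 1 + 2 by omega, pow_add, pow_two, mul_inv_rev, mul_inv_rev]
      have h3 : d * c⁻¹ * d⁻¹ = c := by
        calc d * c⁻¹ * d⁻¹ = (d * c * d⁻¹)⁻¹ := by group
          _ = c := by rw [h2, inv_inv]
      calc d ^ (2 * j + 1) * (d * d) * c * (d⁻¹ * d⁻¹ * (d ^ (2 * j + 1))⁻¹)
          = d ^ (2 * j + 1) * (d * (d * c * d⁻¹) * d⁻¹) * (d ^ (2 * j + 1))⁻¹ := by group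
        _ = c⁻¹ := by rw [h2, h3, ih]
  have hoddd : Odd (orderOf d) := by
    by_contra hev
    rw [Nat.not_odd_iff_even, even_iff_two_dvd] at hev
    have hpos := orderOf_pos d
    obtain ⟨k, hk⟩ := hev
    obtain ⟨x, hx⟩ := L.inv_P (t := d ^ k)
      (by rw [← pow_add, ← two_mul, ← hk, pow_orderOf_eq_one]) (L.Hg.pow_mem hd k)
    have hAk : (d ^ k) • A = A :=
      MulAction.mem_stabilizer_iff.mp (pow_mem (MulAction.mem_stabilizer_iff.mpr hdA) k)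
    rw [hx] at hAk
    rw [L.stabP hA hAk, L.ψ_one] at hx
    have := orderOf_le_of_pow_eq_one (show 0 < k by omega) hx
    omega
  obtain ⟨j, hj⟩ := hoddd
  have h3 := hiter j
  rw [← hj, pow_orderOf_eq_one, one_mul, inv_one, mul_one] at h3
  have h4 : c = 1 := L.no_inverted hA hcC hcA ht0 (h1.trans h3)
  rw [hc, inv_mul_eq_one] at h4
  exact Subtype.ext (mul_left_cancel h4)

theorem card_fibre (B : G ⧸ L.Hg) :
    Nat.card {t : G // (t * t = 1 ∧ t ≠ 1) ∧ t • B = B} = q - 1 := by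
  obtain ⟨g, rfl⟩ := L.exists_rep B
  rw [← L.card_zs]
  have hmem : ∀ b : Zs K, ((g * ψ (zp K b.1 b.2.1) * g⁻¹) * (g * ψ (zp K b.1 b.2.1) * g⁻¹) = 1 ∧
      g * ψ (zp K b.1 b.2.1) * g⁻¹ ≠ 1) ∧
      (g * ψ (zp K b.1 b.2.1) * g⁻¹) • (g • L.pt) = g • L.pt := fun b => by
    refine ⟨⟨?_, fun h => L.zp_ne b.2.1 b.2.2 ?_⟩, L.fix_rep.mpr ?_⟩
    · calc _ = g * (ψ (zp K b.1 b.2.1) * ψ (zp K b.1 b.2.1)) * g⁻¹ := by group
        _ = 1 := by rw [L.zp_sq, mul_one, mul_inv_cancel]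
    · rwa [mul_inv_eq_one, mul_eq_left] at h
    · rw [show g⁻¹ * (g * ψ (zp K b.1 b.2.1) * g⁻¹) * g = ψ (zp K b.1 b.2.1) by group]
      exact L.ψ_mem_H _
  refine (Nat.card_congr (Equiv.ofBijective
    (fun b => (⟨_, hmem b⟩ : {t : G // (t * t = 1 ∧ t ≠ 1) ∧ t • g • L.pt = g • L.pt})) ⟨?_, ?_⟩)).symm
  · intro b b' h
    exact L.zs_ext (mul_left_cancel (mul_right_cancel (congrArg Subtype.val h)))
  · rintro ⟨t, ⟨ht, h1⟩, hfix⟩
    obtain ⟨x, hx⟩ := L.inv_P (by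
      calc g⁻¹ * t * g * (g⁻¹ * t * g) = g⁻¹ * (t * t) * g := by group
        _ = 1 := by rw [ht, mul_one, inv_mul_cancel]) (L.fix_rep.mp hfix)
    have ha : x.1.1 = 0 := L.ψ_sq.mp (by
      rw [← hx]
      calc g⁻¹ * t * g * (g⁻¹ * t * g) = g⁻¹ * (t * t) * g := by group
        _ = 1 := by rw [ht, mul_one, inv_mul_cancel])
    have hne : x ≠ pone K := fun e => h1 (by
      rw [e, L.ψ_one] at hx
      calc t = g * (g⁻¹ * t * g) * g⁻¹ := by group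
        _ = 1 := by rw [hx, mul_one, mul_inv_cancel])
    refine ⟨⟨x.1.2, bar_snd_of_fst x ha, snd_ne x hne⟩, Subtype.ext ?_⟩
    show g * ψ (zp K x.1.2 _) * g⁻¹ = t
    rw [← eq_zp x ha, ← hx]
    group

theorem card_sw {A : G ⧸ L.Hg} (hA : A ≠ L.pt) : Nat.card (L.Sw A) = q - 1 := by
  classical
  haveI := Fintype.ofFinite (G ⧸ L.Hg)
  have hle : ∀ B : {B : G ⧸ L.Hg // B ≠ L.pt}, Nat.card (L.Sw B.1) ≤ q - 1 := fun B => by
    by_cases hne : Nonempty (L.Sw B.1)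
    · obtain ⟨t₀⟩ := hne
      rw [← L.card_zs]
      exact Nat.card_le_card_of_injective _ (L.swVal_inj B.2 t₀)
    · rw [not_nonempty_iff] at hne
      simp
  have hfp : ∀ t : {t : G // (t * t = 1 ∧ t ≠ 1) ∧ t • L.pt ≠ L.pt},
      ∃ B : {B : G ⧸ L.Hg // B ≠ L.pt}, t.1 • B.1 = B.1 := fun t => by
    obtain ⟨B, hB⟩ := L.exists_inv_fix t.2.1.1 t.2.1.2
    exact ⟨⟨B, fun h => t.2.2 (h ▸ hB)⟩, hB⟩
  choose fp hfp' using hfp
  let e1 : {t : G // (t * t = 1 ∧ t ≠ 1) ∧ t • L.pt ≠ L.pt} ≃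
      Σ B : {B : G ⧸ L.Hg // B ≠ L.pt}, {t : G // (t * t = 1 ∧ t ≠ 1) ∧ t • B.1 = B.1} :=
    { toFun := fun t => ⟨fp t, t.1, t.2.1, hfp' t⟩
      invFun := fun p => ⟨p.2.1, p.2.2.1, fun h =>
        p.1.2 (L.inv_unique p.2.2.1.1 p.2.2.1.2 p.2.2.2 h)⟩
      left_inv := fun t => rfl
      right_inv := by
        rintro ⟨B, t, h1, h2⟩
        refine Sigma.subtype_ext (Subtype.ext ?_) rfl
        show (fp ⟨t, h1, fun h => B.2 (L.inv_unique h1.1 h1.2 h2 h)⟩).1 = B.1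
        exact L.inv_unique h1.1 h1.2 (hfp' ⟨t, h1, fun h => B.2 (L.inv_unique h1.1 h1.2 h2 h)⟩) h2 }
  let e2 : {t : G // (t * t = 1 ∧ t ≠ 1) ∧ t • L.pt ≠ L.pt} ≃
      Σ B : {B : G ⧸ L.Hg // B ≠ L.pt}, L.Sw B.1 :=
    { toFun := fun t => ⟨⟨t.1 • L.pt, t.2.2⟩, t.1, t.2.1.1, rfl⟩
      invFun := fun p => ⟨p.2.1, ⟨p.2.2.1, L.sw_ne p.1.2 p.2⟩, fun h => p.1.2 (p.2.2.2.symm.trans h)⟩
      left_inv := fun t => rfl
      right_inv := by
        rintro ⟨B, t, h1, h2⟩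
        exact Sigma.subtype_ext (Subtype.ext h2) rfl }
  have h := Nat.card_congr (e1.symm.trans e2)
  rw [Nat.card_sigma, Nat.card_sigma] at h
  simp only [L.card_fibre] at h
  exact (Finset.sum_eq_sum_iff_of_le fun B _ => hle B).mp h.symm ⟨A, hA⟩ (Finset.mem_univ _)

theorem exists_sw {A : G ⧸ L.Hg} (hA : A ≠ L.pt) : Nonempty (L.Sw A) := by
  have h := L.card_sw hA
  have := L.three_le
  exact (Nat.card_pos_iff.mp (by omega)).1

theorem sw_surj {A : G ⧸ L.Hg} (hA : A ≠ L.pt) (t₀ : L.Sw A) (b : Zs K) :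
    ∃ d : G, ∃ hd : d ∈ L.Hg, d • A = A ∧ t₀.1 * d * t₀.1 = d⁻¹ ∧ L.ρ ⟨d, hd⟩ (zone K) = b := by
  have hbij := (Nat.bijective_iff_injective_and_card (L.swVal t₀)).mpr
    ⟨L.swVal_inj hA t₀, by rw [L.card_sw hA, L.card_zs]⟩
  obtain ⟨t, ht⟩ := hbij.2 b
  obtain ⟨hd, hdA⟩ := L.sw_mul t₀ t
  refine ⟨_, hd, hdA, ?_, ht⟩
  rw [mul_inv_rev, inv_eq_of_mul_eq_one_right t₀.2.1, inv_eq_of_mul_eq_one_right t.2.1,
    ← mul_assoc t₀.1, t₀.2.1, one_mul]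

theorem ρ_eq {h h' : L.Hg} (e : L.ρ h (zone K) = L.ρ h' (zone K)) : L.ρ h = L.ρ h' := by
  have h1 : L.ρ (h'⁻¹ * h) (zone K) = zone K := by
    rw [map_mul, Equiv.Perm.mul_apply, e, ← Equiv.Perm.mul_apply, ← map_mul, inv_mul_cancel,
      map_one, Equiv.Perm.one_apply]
  have h2 := L.ρ_C (L.ρ_fix h1)
  rw [map_mul, map_inv, inv_mul_eq_one] at h2
  exact h2.symm

/-- `H/C` is abelian. -/
theorem ρ_comm (h h' : L.Hg) : L.ρ h * L.ρ h' = L.ρ h' * L.ρ h := by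
  obtain ⟨A, hA⟩ := L.exists_other
  obtain ⟨t₀⟩ := L.exists_sw hA
  obtain ⟨d₁, hd₁, hA1, hi1, he1⟩ := L.sw_surj hA t₀ (L.ρ h (zone K))
  obtain ⟨d₂, hd₂, hA2, hi2, he2⟩ := L.sw_surj hA t₀ (L.ρ h' (zone K))
  obtain ⟨d₃, hd₃, hA3, hi3, he3⟩ := L.sw_surj hA t₀ (L.ρ (⟨d₁, hd₁⟩ * ⟨d₂, hd₂⟩) (zone K))
  rw [← L.ρ_eq he1, ← L.ρ_eq he2]
  have h12 : L.ρ ⟨d₃, hd₃⟩ = L.ρ ⟨d₁, hd₁⟩ * L.ρ ⟨d₂, hd₂⟩ := by rw [← map_mul]; exact L.ρ_eq he3
  set c := d₃⁻¹ * (d₁ * d₂) with hc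
  have hcC : c ∈ L.Cg := by
    refine L.ρ_fix (h := ⟨d₃, hd₃⟩⁻¹ * (⟨d₁, hd₁⟩ * ⟨d₂, hd₂⟩)) (b := zone K) ?_
    rw [map_mul, map_inv, map_mul, h12, inv_mul_cancel, Equiv.Perm.one_apply]
  have hcA : c • A = A := by rw [mul_smul, mul_smul, hA2, hA1, inv_smul_eq_iff, hA3]
  have hsc := L.swap_comm hA hcC hcA t₀.2.1 t₀.2.2
  have ht := t₀.2.1
  have key : d₁⁻¹ * d₂⁻¹ = d₃⁻¹ * c := by
    rw [← hi1, ← hi2, ← hi3]
    calc t₀.1 * d₁ * t₀.1 * (t₀.1 * d₂ * t₀.1) = t₀.1 * (d₁ * d₂) * t₀.1 := by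
          rw [show t₀.1 * d₁ * t₀.1 * (t₀.1 * d₂ * t₀.1) =
            t₀.1 * d₁ * (t₀.1 * t₀.1) * d₂ * t₀.1 by group, ht, mul_one]
          group
      _ = t₀.1 * d₃ * 1 * c * t₀.1 := by rw [hc]; group
      _ = t₀.1 * d₃ * (t₀.1 * t₀.1) * c * t₀.1 := by rw [ht]
      _ = t₀.1 * d₃ * t₀.1 * (t₀.1 * c * t₀.1) := by group
      _ = t₀.1 * d₃ * t₀.1 * c := by rw [hsc]
  have h21 : (⟨d₂, hd₂⟩ : L.Hg) * ⟨d₁, hd₁⟩ = ⟨c, L.C_le_H hcC⟩⁻¹ * ⟨d₃, hd₃⟩ := Subtype.ext (by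
    show d₂ * d₁ = c⁻¹ * d₃
    calc d₂ * d₁ = (d₁⁻¹ * d₂⁻¹)⁻¹ := by group
      _ = (d₃⁻¹ * c)⁻¹ := by rw [key]
      _ = c⁻¹ * d₃ := by group)
  rw [← h12, ← map_mul L.ρ ⟨d₂, hd₂⟩, h21, map_mul, map_inv, L.ρ_C (h := ⟨c, L.C_le_H hcC⟩) hcC,
    inv_one, one_mul]

end Loc

end CfsgLib.UThreeCent
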