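import Cfsg.Agent.Lib.UThreeCent.Func

/-!
# Involution centralisers of `PGU₃(2^m)`: the group is determined
-/

set_option autoImplicit false
set_option linter.unusedSectionVars false

namespace CfsgLib.UThreeCent

open CfsgLib.ClassicalAut (Unitary.Conj)
open CfsgLib.Classical.URoot (Par pmul pinv pone)

variable {F : Type*} [Field F] [Finite F] [CharP F 2] {q : ℕ} (K : Unitary.Conj F q)

/-- The permutations generating the standard group. -/
def stdSet : Set (Equiv.Perm (Option (Par K))) :=
  {σ | (∃ x, σ none = none ∧ ∀ y, σ (some y) = some (pmul K x y)) ∨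
    (∃ l : F, l ≠ 0 ∧ σ none = none ∧ ∀ y, σ (some y) = some (scl K l y)) ∨
    (σ none = some (pone K) ∧ σ (some (pone K)) = none ∧
      ∀ y, y ≠ pone K → ∃ z : Par K, σ (some y) = some z ∧
        z.1.1 = y.1.1 / K.bar y.1.2 ∧ z.1.2 = y.1.2⁻¹)}

/-- The standard group. -/
def stdGroup : Subgroup (Equiv.Perm (Option (Par K))) := Subgroup.closure (stdSet K)

variable {K} {G : Type*} [Group G] [Finite G] {ψ : Par K → G} {τ : F → G}

/-- A group with the given involution centraliser is the standard group. -/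
theorem Loc.equiv_std (L : Loc K ψ τ) : Nonempty (G ≃* stdGroup K) := by
  classical
  obtain ⟨th, w, A₀, P⟩ := L.exists_pair
  let f : Option (Par K) → G ⧸ L.Hg := fun o => o.elim L.pt fun x => ψ x • A₀
  have hf : Function.Bijective f := by
    refine ⟨?_, fun B => ?_⟩
    · rintro (_ | x) (_ | y) h
      · rfl
      · exact absurd h.symm (P.ψ_ne_pt y)
      · exact absurd h (P.ψ_ne_pt x)
      · exact congrArg some (P.ψ_inj_pt h)
    · by_cases hB : B = L.pt
      · exact ⟨none, hB.symm⟩
      · obtain ⟨u, hu⟩ := P.surj B hB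
        exact ⟨some u, hu⟩
  set e := Equiv.ofBijective f hf with he
  let Φ : G →* Equiv.Perm (Option (Par K)) :=
    (e.symm.permCongrHom.toMonoidHom).comp (MulAction.toPermHom G (G ⧸ L.Hg))
  have hΦ : ∀ g o o', g • f o = f o' → Φ g o = o' := fun g o o' h => by
    show e.symm (g • e o) = o'
    rw [show e o = f o from rfl, h]
    exact e.symm_apply_apply o'
  have hinj : Function.Injective Φ := by
    refine (injective_iff_map_eq_one Φ).mpr fun g hg => ?_
    have hact : ∀ o, g • f o = f o := fun o => by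
      have h1 : Φ g o = o := by rw [hg, Equiv.Perm.one_apply]
      have h2 : e.symm (g • e o) = o := h1
      exact (e.symm_apply_eq.mp h2)
    obtain ⟨l, hl, rfl⟩ := P.stab_two (hact none) (by
      have := hact (some (pone K))
      simpa [f, L.ψ_one] using this)
    obtain ⟨b, hb⟩ := exists_par K (1 : F)
    have h3 : th l • ψ ⟨(1, b), hb⟩ • A₀ = ψ ⟨(1, b), hb⟩ • A₀ := hact (some ⟨(1, b), hb⟩)
    rw [P.th_act hl] at h3
    have h4 := congrArg (fun z : Par K => z.1.1) (P.ψ_inj_pt h3)
    simp only [scl_fst, mul_one] at h4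
    rw [show l = 1 from h4, P.bor.th_one]
  have hψ : ∀ x, Φ (ψ x) ∈ stdSet K := fun x =>
    Or.inl ⟨x, hΦ _ none none (P.ψ_pt x), fun y => hΦ _ (some y) (some _) (P.ψ_act x y)⟩
  have hth : ∀ l, l ≠ 0 → Φ (th l) ∈ stdSet K := fun l hl =>
    Or.inr (Or.inl ⟨l, hl, hΦ _ none none (L.fix_pt.mpr (P.bor.th_mem hl)),
      fun y => hΦ _ (some y) (some _) (P.th_act hl y)⟩)
  have hw : Φ w ∈ stdSet K := by
    refine Or.inr (Or.inr ⟨hΦ _ none (some (pone K)) ?_, hΦ _ (some (pone K)) none ?_, fun y hy =>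
      ⟨P.fM y, hΦ _ (some y) (some _) (P.f_spec hy), P.f_formula hy⟩⟩)
    · simp [f, P.w_pt, L.ψ_one]
    · simp [f, P.w_A₀, L.ψ_one]
  have hgen : ∀ g : G, g ∈ Subgroup.closure (Set.range ψ ∪ th '' {l | l ≠ 0} ∪ {w}) := by
    set S := Subgroup.closure (Set.range ψ ∪ th '' {l | l ≠ 0} ∪ {w})
    have hH : ∀ g ∈ L.Hg, g ∈ S := fun g hg => by
      obtain ⟨x, l, hl, rfl⟩ := P.bor.decomp g hg
      exact S.mul_mem (Subgroup.subset_closure (Or.inl (Or.inl ⟨x, rfl⟩)))
        (Subgroup.subset_closure (Or.inl (Or.inr ⟨l, hl, rfl⟩)))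
    intro g
    by_cases hp : g • L.pt = L.pt
    · exact hH g (L.fix_pt.mp hp)
    · obtain ⟨u, hu⟩ := P.surj _ hp
      have h1 : w * (ψ u)⁻¹ * g ∈ S := hH _ (L.fix_pt.mp (by
        rw [mul_smul, mul_smul, ← hu, inv_smul_smul, P.w_A₀]))
      have h2 := S.mul_mem (S.mul_mem (Subgroup.subset_closure (Or.inl (Or.inl ⟨u, rfl⟩)))
        (Subgroup.subset_closure (Or.inr rfl) : w ∈ S)) h1
      rwa [show ψ u * w * (w * (ψ u)⁻¹ * g) = ψ u * (w * w) * (ψ u)⁻¹ * g by group, P.w_sq,
        mul_one, mul_inv_cancel, one_mul] at h2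
  have hrange : Φ.range = stdGroup K := by
    refine le_antisymm ?_ ((Subgroup.closure_le _).mpr ?_)
    · rintro _ ⟨g, rfl⟩
      have h := hgen g
      induction h using Subgroup.closure_induction with
      | mem s hs =>
        rcases hs with (⟨x, rfl⟩ | ⟨l, hl, rfl⟩) | hs
        · exact Subgroup.subset_closure (hψ x)
        · exact Subgroup.subset_closure (hth l hl)
        · rw [Set.mem_singleton_iff.mp hs]; exact Subgroup.subset_closure hw
      | one => rw [map_one]; exact one_mem _
      | mul a b _ _ ha hb => rw [map_mul]; exact mul_mem ha hb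
      | inv a _ ha => rw [map_inv]; exact inv_mem ha
    · intro σ hσ
      rcases hσ with ⟨x, h0, h1⟩ | ⟨l, hl, h0, h1⟩ | ⟨h0, h1, h2⟩
      · refine ⟨ψ x, Equiv.ext ?_⟩
        rintro (_ | y)
        · rw [h0]; exact hΦ _ none none (P.ψ_pt x)
        · rw [h1]; exact hΦ _ (some y) (some _) (P.ψ_act x y)
      · refine ⟨th l, Equiv.ext ?_⟩
        rintro (_ | y)
        · rw [h0]; exact hΦ _ none none (L.fix_pt.mpr (P.bor.th_mem hl))
        · rw [h1]; exact hΦ _ (some y) (some _) (P.th_act hl y)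
      · refine ⟨w, Equiv.ext ?_⟩
        rintro (_ | y)
        · rw [h0]
          exact hΦ _ none (some (pone K)) (by simp [f, P.w_pt, L.ψ_one])
        · by_cases hy : y = pone K
          · subst hy
            rw [h1]
            exact hΦ _ (some (pone K)) none (by simp [f, P.w_A₀, L.ψ_one])
          · obtain ⟨z, hz, z1, z2⟩ := h2 y hy
            rw [hz]
            refine hΦ _ (some y) (some z) ((P.f_spec hy).trans ?_)
            obtain ⟨f1, f2⟩ := P.f_formula hy
            rw [show P.fM y = z from par_ext (f1.trans z1.symm) (f2.trans z2.symm)]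
            rfl
  exact ⟨(MonoidHom.ofInjective hinj).trans (MulEquiv.subgroupCongr hrange)⟩

end CfsgLib.UThreeCent
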