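import Cfsg.Agent.Lib.UThreeCent.Trans

/-!
# Involution centralisers of `PGU₃(2^m)`: a point fixed by the anisotropic torus
-/

set_option autoImplicit false
set_option linter.unusedSectionVars false

namespace CfsgLib.UThreeCent

open CfsgLib.ClassicalAut (Unitary.Conj)
open CfsgLib.Classical.URoot (Par pmul pinv pone)

variable {F : Type*} [Field F] [Finite F] [CharP F 2] {q : ℕ} {K : Unitary.Conj F q}

/-- The norm of `r + t`. -/
def nrm (t r : F) : F := (r + t) * (r + t + 1)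

theorem bar_t {t : F} (ht : t + K.bar t = 1) : K.bar t = t + 1 := by
  linear_combination ht - t * two_eq (F := F)

theorem nrm_real {t r : F} (ht : t + K.bar t = 1) (hr : K.bar r = r) :
    K.bar (nrm t r) = nrm t r ∧ nrm t r ≠ 0 := by
  obtain ⟨h1, h2, h3⟩ := root_fixed ht hr
  refine ⟨?_, mul_ne_zero h1 h3⟩
  rw [nrm, map_mul, map_add K.bar (r + t), map_one, h2]
  linear_combination (r + t + 1) * two_eq (F := F)

theorem real_add_one {r : F} (hr : K.bar r = r) : K.bar (r + 1) = r + 1 := by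
  rw [map_add, map_one, hr]

variable {G : Type*} [Group G] [Finite G] {ψ : Par K → G} {τ : F → G} {L : Loc K ψ τ}
  {th : F → G} {w : G} {A₀ : G ⧸ L.Hg}

namespace Pair

variable (P : Pair L th w A₀)

include P

/-- The points fixed by the torus of norm-one elements. -/
def InD (_ : Pair L th w A₀) (B : G ⧸ L.Hg) : Prop :=
  B = L.pt ∨ ∃ (b : F) (hb : K.bar b = b), B = ψ (zp K b hb) • A₀

open scoped _root_.Classical in
/-- The conic point with a given coordinate. -/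
noncomputable def bp (_ : Pair L th w A₀) (t y : F) : G ⧸ L.Hg :=
  if y + K.bar y = 0 then L.pt
  else if h : K.bar (y / (y + K.bar y) + t) = y / (y + K.bar y) + t then
    ψ (zp K (y / (y + K.bar y) + t) h) • A₀ else L.pt

theorem zp_congr {b b' : F} {hb : K.bar b = b} {hb' : K.bar b' = b'} (h : b = b') :
    ψ (zp K b hb) • A₀ = ψ (zp K b' hb') • A₀ := by subst h; rfl

theorem bp_zero {t y : F} (h : K.bar y = y) : P.bp t y = L.pt := by
  rw [bp, if_pos (by rw [h, CharTwo.add_self_eq_zero])]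

theorem bp_pt {t y : F} (ht : t + K.bar t = 1) (h : P.bp t y = L.pt) : K.bar y = y := by
  by_contra hne
  have h1 : y + K.bar y ≠ 0 := fun e => hne (eq_of_add_eq_zero e).symm
  have h2 : K.bar (y / (y + K.bar y) + t) = y / (y + K.bar y) + t := by
    rw [map_add, map_div₀, bar_tr, bar_t ht]
    field_simp
    linear_combination K.bar y * two_eq (F := F)
  rw [bp, if_neg h1, dif_pos h2] at h
  exact P.ψ_ne_pt _ h

theorem bp_lin {t : F} (ht : t + K.bar t = 1) {u v : F} (hu : K.bar u = u) (hv : K.bar v = v)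
    (h0 : v ≠ 0) :
    P.bp t (u + v * t) = ψ (zp K (u / v) (by rw [map_div₀, hu, hv])) • A₀ := by
  have h1 : u + v * t + K.bar (u + v * t) = v := by
    rw [map_add, map_mul, hu, hv, bar_t ht]
    linear_combination (u + v * t) * two_eq (F := F)
  have h2 : (u + v * t) / v + t = u / v := by
    field_simp
    linear_combination (v * t) * two_eq (F := F)
  rw [bp, if_neg (by rw [h1]; exact h0), dif_pos (by rw [h1, h2, map_div₀, hu, hv])]
  exact P.zp_congr (by rw [h1, h2])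

theorem bp_smul {t s y : F} (ht : t + K.bar t = 1) (hs : K.bar s = s) (hs0 : s ≠ 0) :
    P.bp t (s * y) = P.bp t y := by
  by_cases h : K.bar y = y
  · rw [P.bp_zero h, P.bp_zero (by rw [map_mul, hs, h])]
  · have h0 : y + K.bar y ≠ 0 := fun e => h (eq_of_add_eq_zero e).symm
    set T := y + K.bar y with hT
    have hTb : K.bar T = T := bar_tr y
    have hu : K.bar (y + T * t) = y + T * t := by
      rw [map_add, map_mul, hTb, bar_t ht, hT]
      linear_combination K.bar y * two_eq (F := F)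
    have hy : y = (y + T * t) + T * t := by linear_combination -(T * t) * two_eq (F := F)
    rw [hy, mul_add, ← mul_assoc, P.bp_lin ht (by rw [map_mul, hs, hu]) (by rw [map_mul, hs, hTb])
      (mul_ne_zero hs0 h0), P.bp_lin ht hu hTb h0]
    exact P.zp_congr (mul_div_mul_left _ _ hs0)

theorem inD_bp (t y : F) : P.InD (P.bp t y) := by
  rw [bp]
  split_ifs
  · exact Or.inl rfl
  · exact Or.inr ⟨_, _, rfl⟩
  · exact Or.inl rfl

theorem fix_of_inD {c : F} (hc : Mu K c) {B : G ⧸ L.Hg} (hB : P.InD B) : τ c • B = B := by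
  rw [← P.bor.th_mu c hc]
  rcases hB with rfl | ⟨b, hb, rfl⟩
  · exact L.fix_pt.mpr (P.bor.th_mem hc.ne)
  · rw [P.th_act hc.ne]
    exact congrArg (fun x => ψ x • A₀) (par_ext (by simp) (by simp [show c * K.bar c = 1 from hc]))

theorem inD_of_fix {c : F} (hc : Mu K c) (hc1 : c ≠ 1) {B : G ⧸ L.Hg} (h : τ c • B = B) :
    P.InD B := by
  by_cases hB : B = L.pt
  · exact Or.inl hB
  obtain ⟨u, rfl⟩ := P.surj B hB
  rw [← P.bor.th_mu c hc, P.th_act hc.ne] at h
  have h1 := congrArg (fun x : Par K => x.1.1) (P.ψ_inj_pt h)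
  simp only [scl_fst] at h1
  have hu : u.1.1 = 0 := by
    by_contra hu
    exact hc1 (mul_right_cancel₀ hu (by rw [one_mul]; exact h1))
  exact Or.inr ⟨_, _, by rw [← eq_zp u hu]⟩

theorem inD_smul {g : G} (hg : ∀ c, Mu K c → g * τ c = τ c * g) {B : G ⧸ L.Hg} (hB : P.InD B) :
    P.InD (g • B) := by
  obtain ⟨c, hc, hc1, -⟩ := exists_mu_gen K
  refine P.inD_of_fix hc hc1 ?_
  rw [← mul_smul, ← hg c hc, mul_smul, P.fix_of_inD hc hB]

theorem ψ_τ_comm {x : Par K} (hx : x.1.1 = 0) {c : F} (hc : Mu K c) : ψ x * τ c = τ c * ψ x := by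
  rw [eq_zp x hx]
  exact (L.C_comm_zp (L.τ_mem_C hc) _).symm

theorem th_τ_comm {l : F} (hl : l ≠ 0) {c : F} (hc : Mu K c) : th l * τ c = τ c * th l := by
  rw [← P.bor.th_mu c hc, P.bor.th_comm hl hc.ne]

theorem w_τ_comm {c : F} (hc : Mu K c) : w * τ c = τ c * w := by
  have h := P.w_th c hc.ne
  rw [P.bor.th_mu c hc, hc.bar.inv_eq, K.bar_bar, P.bor.th_mu c hc] at h
  conv_rhs => rw [← h, mul_assoc, P.w_sq, mul_one]

/-- A stabiliser of the points fixed by the small torus centralises it. -/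
theorem comm_of_inD {g : G} (hg : ∀ B, P.InD B → P.InD (g • B)) {c : F} (hc : Mu K c) :
    g * τ c = τ c * g := by
  have key : ∀ g : G, (∀ B, P.InD B → P.InD (g • B)) → g • L.pt = L.pt →
      g * τ c = τ c * g := fun g hg hp => by
    obtain ⟨x, l, hl, rfl⟩ := P.bor.decomp g (L.fix_pt.mp hp)
    have h1 := hg A₀ (Or.inr ⟨0, map_zero _, by
      rw [show zp K 0 (map_zero _) = pone K from par_ext rfl rfl, L.ψ_one, one_smul]⟩)
    rw [mul_smul, P.fix l hl] at h1
    rcases h1 with h1 | ⟨b, hb, h1⟩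
    · exact absurd h1 (P.ψ_ne_pt x)
    · rw [P.ψ_inj_pt h1, mul_assoc, P.th_τ_comm hl hc, ← mul_assoc, P.ψ_τ_comm rfl hc, mul_assoc]
  rcases hg L.pt (Or.inl rfl) with hp | ⟨b, hb, hp⟩
  · exact key g hg hp
  · set s := w * ψ (pinv K (zp K b hb)) with hs
    have hsc : ∀ d, Mu K d → s * τ d = τ d * s := fun d hd => by
      rw [hs, mul_assoc, P.ψ_τ_comm (by simp) hd, ← mul_assoc, P.w_τ_comm hd, mul_assoc]
    have h2 := key (s * g) (fun B hB => by rw [mul_smul]; exact P.inD_smul hsc (hg B hB)) (by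
      rw [mul_smul, hp, hs, mul_smul, P.ψ_act, pinv_pmul, L.ψ_one, one_smul, P.w_A₀])
    refine mul_left_cancel (a := s) ?_
    exact (mul_assoc s g _).symm.trans (h2.trans ((mul_assoc _ s g).symm.trans
      ((congrArg (· * g) (hsc c hc).symm).trans (mul_assoc s _ g))))

theorem comm_of_comm {g : G} {c : F} (hc : Mu K c) (hc1 : c ≠ 1) (h : g * τ c = τ c * g) {d : F}
    (hd : Mu K d) : g * τ d = τ d * g :=
  P.comm_of_inD (fun B hB => P.inD_of_fix hc hc1
    (by rw [← mul_smul, ← h, mul_smul, P.fix_of_inD hc hB])) hd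

/-- Elements fixing the conic pointwise lie in the small torus. -/
theorem kernel {g : G} (h : ∀ B, P.InD B → g • B = B) : ∃ c, Mu K c ∧ g = τ c := by
  obtain ⟨l, hl, rfl⟩ := P.stab_two (h _ (Or.inl rfl)) (h _ (Or.inr ⟨0, map_zero _, by
      rw [show zp K 0 (map_zero _) = pone K from par_ext rfl rfl, L.ψ_one, one_smul]⟩))
  have h1 := h _ (Or.inr ⟨1, map_one _, rfl⟩)
  rw [P.th_act hl] at h1
  have h2 := congrArg (fun x : Par K => x.1.2) (P.ψ_inj_pt h1)
  simp only [scl_snd, zp_snd, mul_one] at h2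
  exact ⟨l, h2, P.bor.th_mu l h2⟩

/-- The rotation attached to a fixed element. -/
theorem exists_rot {t : F} (ht : t + K.bar t = 1) {r : F} (hr : K.bar r = r) :
    ∃ (e : G) (s : F), s ≠ 0 ∧ K.bar s = s ∧ s * s = nrm t r ∧
      (∀ c, Mu K c → e * τ c = τ c * e) ∧
      (∀ y, y ≠ 0 → e • P.bp t y = P.bp t ((r + t) * y)) ∧
      ∀ v, pmul K (zp K (r + 1) (real_add_one hr)) v ≠ pone K →
        e • ψ v • A₀ = ψ (pmul K (zp K r hr)
          (scl K s (P.fM (pmul K (zp K (r + 1) (real_add_one hr)) v)))) • A₀ := by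
  obtain ⟨hn, hn0⟩ := nrm_real ht hr
  obtain ⟨s, hs, hss⟩ := exists_sqrt K hn
  have hs0 : s ≠ 0 := fun h => hn0 (by rw [← hss, h, mul_zero])
  refine ⟨ψ (zp K r hr) * th s * w * ψ (zp K (r + 1) (real_add_one hr)), s, hs0, hs, hss,
    fun c hc => ?_, fun y _ => ?_, fun v hv => ?_⟩
  · rw [mul_assoc _ (ψ _), P.ψ_τ_comm rfl hc, ← mul_assoc, mul_assoc _ w, P.w_τ_comm hc,
      ← mul_assoc, mul_assoc _ (th s), P.th_τ_comm hs0 hc, ← mul_assoc, P.ψ_τ_comm rfl hc]
    simp only [mul_assoc]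
  · by_cases h : K.bar y = y
    · rcases eq_or_ne y 0 with rfl | hy
      · contradiction
      rw [P.bp_zero h, mul_smul, mul_smul, mul_smul, P.ψ_pt, P.w_pt, P.fix s hs0, mul_comm,
        P.bp_smul ht h hy]
      have h1 := P.bp_lin ht hr (map_one K.bar) one_ne_zero
      rw [one_mul] at h1
      rw [h1]
      exact P.zp_congr (div_one r).symm
    · have h0 : y + K.bar y ≠ 0 := fun e => h (eq_of_add_eq_zero e).symm
      set T := y + K.bar y with hT
      have hTb : K.bar T = T := bar_tr y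
      obtain ⟨z, hz, hy⟩ : ∃ z, K.bar z = z ∧ y = T * (z + t) := by
        refine ⟨y / T + t, ?_, ?_⟩
        · rw [map_add, map_div₀, hTb, bar_t ht]
          field_simp
          linear_combination hT + K.bar y * two_eq (F := F)
        · field_simp
          linear_combination -(T * t) * two_eq (F := F)
      have hprod : (r + t) * y = T * ((z * r + t * K.bar t) + (z + r + 1) * t) := by
        rw [hy, bar_t ht]; ring_nf
        linear_combination -(T * t) * two_eq (F := F)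
      have hb1 : P.bp t y = ψ (zp K z hz) • A₀ := by
        rw [hy, P.bp_smul ht hTb h0]
        have h1 := P.bp_lin ht hz (map_one K.bar) one_ne_zero
        rw [one_mul] at h1
        rw [h1]
        exact P.zp_congr (div_one z)
      have hν : K.bar (z * r + t * K.bar t) = z * r + t * K.bar t := by
        rw [map_add, map_mul K.bar z r, hz, hr, bar_self_mul]
      have hd : K.bar (z + r + 1) = z + r + 1 := by rw [map_add, map_add, map_one, hz, hr]
      rw [hb1, hprod, P.bp_smul ht hTb h0, mul_smul, mul_smul, mul_smul, P.ψ_act]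
      have hadd : pmul K (zp K (r + 1) (real_add_one hr)) (zp K z hz) = zp K (z + r + 1) hd :=
        par_ext (by simp) (by simp; ring)
      rw [hadd]
      by_cases hd0 : z + r + 1 = 0
      · rw [show zp K (z + r + 1) hd = pone K from par_ext rfl hd0, L.ψ_one, one_smul, P.w_A₀,
          L.fix_pt.mpr (P.bor.th_mem hs0), P.ψ_pt, hd0, zero_mul, add_zero, P.bp_zero hν]
      · have hne : zp K (z + r + 1) hd ≠ pone K := fun e =>
          hd0 (congrArg (fun x : Par K => x.1.2) e)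
        rw [P.f_spec hne, P.f_zp hd hd0, P.th_act hs0, P.ψ_act, P.bp_lin ht hν hd hd0]
        refine congrArg (fun x => ψ x • A₀) (par_ext (by simp) ?_)
        simp only [pmul_snd, zp_snd, scl_snd, hs, hss, zp_fst, zero_mul, add_zero]
        rw [nrm, bar_t ht]
        field_simp
        linear_combination (r * r + r * t + r) * two_eq (F := F)
  · rw [mul_smul, mul_smul, mul_smul, P.ψ_act, P.f_spec hv, P.th_act hs0, P.ψ_act]

theorem card_moved : Nat.card {x : Par K // x.1.1 ≠ 0} = (q ^ 2 - 1) * q := by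
  choose e he using exists_par K
  let E : {a : F // a ≠ 0} × {b : F // K.bar b = b} ≃ {x : Par K // x.1.1 ≠ 0} :=
    { toFun := fun p => ⟨⟨(p.1.1, e p.1.1 + p.2.1), by
          show p.1.1 * K.bar p.1.1 + (e p.1.1 + p.2.1) + K.bar (e p.1.1 + p.2.1) = 0
          rw [map_add, p.2.2]
          linear_combination he p.1.1 + p.2.1 * two_eq (F := F)⟩, p.1.2⟩
      invFun := fun x => (⟨x.1.1.1, x.2⟩, ⟨x.1.1.2 + e x.1.1.1, by
          rw [map_add]
          linear_combination x.1.2 + he x.1.1.1 -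
            (x.1.1.1 * K.bar x.1.1.1 + x.1.1.2 + e x.1.1.1) * two_eq (F := F)⟩)
      left_inv := fun p => Prod.ext (Subtype.ext rfl) (Subtype.ext (by
        show e p.1.1 + p.2.1 + e p.1.1 = p.2.1
        rw [add_comm (e p.1.1), add_assoc, CharTwo.add_self_eq_zero, add_zero]))
      right_inv := fun x => Subtype.ext (par_ext rfl (by
        show e x.1.1.1 + (x.1.1.2 + e x.1.1.1) = x.1.1.2
        rw [add_comm x.1.1.2, add_cancel'])) }
  rw [← Nat.card_congr E, Nat.card_prod, CfsgLib.Classical.URoot.card_fix K]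
  congr 1
  classical
  cases nonempty_fintype F
  rw [← K.card, Nat.card_eq_fintype_card, Nat.card_eq_fintype_card, Fintype.card_subtype_compl,
    Fintype.card_subtype_eq]

theorem exists_fixed_point {t : F} (ht : t + K.bar t = 1) :
    ∃ v : Par K, v.1.1 ≠ 0 ∧ ∀ r (hr : K.bar r = r), ∃ g : F, g * K.bar g * nrm t r = 1 ∧
      (P.fM (pmul K (zp K (r + 1) (real_add_one hr)) v)).1.1 = v.1.1 * g ∧
      (P.fM (pmul K (zp K (r + 1) (real_add_one hr)) v)).1.2 * nrm t r = v.1.2 + r := by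
  classical
  choose e s hs0 hsb hss hec heb hev using fun (r : {r : F // K.bar r = r}) => P.exists_rot ht r.2
  obtain ⟨γ, hγ0, hγ⟩ := exists_gen K
  have hγb : K.bar γ ≠ γ := fun h => by
    obtain ⟨c, hc, hc1, -⟩ := exists_mu_gen K
    obtain ⟨i, rfl⟩ := hγ c hc.ne
    have h1 : Mu K (γ ^ i) := hc
    rw [Mu, map_pow, h, ← mul_pow] at h1
    refine hc1 (eq_of_sq ?_)
    rw [one_mul, ← mul_pow, h1]
  set T := γ + K.bar γ with hT
  have hT0 : T ≠ 0 := fun h => hγb (eq_of_add_eq_zero h).symm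
  obtain ⟨r₁, hr₁, hγr⟩ : ∃ r, K.bar r = r ∧ γ = T * (r + t) := by
    refine ⟨γ / T + t, ?_, ?_⟩
    · rw [map_add, map_div₀, show K.bar T = T from bar_tr γ, bar_t ht]
      field_simp
      linear_combination hT + K.bar γ * two_eq (F := F)
    · field_simp
      linear_combination -(T * t) * two_eq (F := F)
  set ε := e ⟨r₁, hr₁⟩ with hε
  have hεc : ∀ (i : ℕ) c, Mu K c → ε ^ i * τ c = τ c * ε ^ i := fun i c hc =>
    (Commute.pow_left (hec _ c hc : Commute ε (τ c)) i).eq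
  have hεb : ∀ (i : ℕ) y, y ≠ 0 → ε ^ i • P.bp t y = P.bp t (γ ^ i * y) := by
    intro i
    induction i with
    | zero => intro y _; rw [pow_zero, pow_zero, one_smul, one_mul]
    | succ i ih =>
      intro y hy
      rw [pow_succ' ε, mul_smul, ih y hy, heb _ _ (mul_ne_zero (pow_ne_zero i hγ0) hy), pow_succ' γ]
      have e0 : γ * γ ^ i * y = T * ((r₁ + t) * (γ ^ i * y)) := by
        rw [mul_assoc, ← mul_assoc T, ← hγr]
      rw [e0, P.bp_smul ht (bar_tr γ) hT0]
  have hcov : ∀ B, P.InD B → ∃ i : ℕ, ε ^ i • L.pt = B := by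
    have h1 : P.bp t 1 = L.pt := P.bp_zero (map_one _)
    intro B hB
    obtain ⟨y, hy, rfl⟩ : ∃ y, y ≠ 0 ∧ P.bp t y = B := by
      rcases hB with rfl | ⟨b, hb, rfl⟩
      · exact ⟨1, one_ne_zero, h1⟩
      · refine ⟨b + t, (root_fixed ht hb).1, ?_⟩
        have h2 := P.bp_lin ht hb (map_one K.bar) one_ne_zero
        rw [one_mul] at h2
        rw [h2]
        exact P.zp_congr (div_one b)
    obtain ⟨i, rfl⟩ := hγ y hy
    exact ⟨i, by rw [← h1, hεb i 1 one_ne_zero, mul_one]⟩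
  have hcent : ∀ g : G, (∀ c, Mu K c → g * τ c = τ c * g) → g * ε = ε * g →
      ∃ i : ℕ, ∃ c, Mu K c ∧ g = ε ^ i * τ c := by
    intro g hg hgε
    obtain ⟨i, hi⟩ := hcov _ (P.inD_smul hg (Or.inl rfl))
    obtain ⟨c, hc, he⟩ := P.kernel (g := (ε ^ i)⁻¹ * g) (fun B hB => by
      obtain ⟨j, rfl⟩ := hcov B hB
      have h1 : g * ε ^ j = ε ^ j * g := (Commute.pow_right (hgε : Commute g ε) j).eq
      rw [mul_smul, ← mul_smul g, h1, mul_smul, ← hi, inv_smul_eq_iff, ← mul_smul, ← mul_smul,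
        ← pow_add, ← pow_add, add_comm])
    exact ⟨i, c, hc, by rw [← he, mul_inv_cancel_left]⟩
  let A : Subgroup G :=
    { carrier := {g | ∃ i : ℕ, ∃ c, Mu K c ∧ g = ε ^ i * τ c}
      one_mem' := ⟨0, 1, Mu.one, by rw [pow_zero, L.τ_one, one_mul]⟩
      mul_mem' := by
        rintro _ _ ⟨i, c, hc, rfl⟩ ⟨j, d, hd, rfl⟩
        refine ⟨i + j, c * d, hc.mul hd, ?_⟩
        rw [pow_add, ← L.τ_mul c d hc hd]
        simp only [mul_assoc]
        rw [← mul_assoc (τ c), ← hεc j c hc, mul_assoc]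
      inv_mem' := by
        rintro _ ⟨i, c, hc, rfl⟩
        refine ⟨orderOf ε * i - i, K.bar c, hc.bar, inv_eq_of_mul_eq_one_right ?_⟩
        rw [mul_assoc, ← mul_assoc (τ c), ← hεc _ c hc, mul_assoc, L.τ_mul c _ hc hc.bar,
          show c * K.bar c = 1 from hc, L.τ_one, mul_one, ← pow_add,
          Nat.add_sub_cancel' (Nat.le_mul_of_pos_left i (orderOf_pos ε)), pow_mul,
          pow_orderOf_eq_one, one_pow] }
  have hAcomm : ∀ g ∈ A, ∀ d, Mu K d → g * τ d = τ d * g := by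
    rintro _ ⟨i, c, hc, rfl⟩ d hd
    rw [mul_assoc, L.τ_mul c d hc hd, mul_comm c d, ← L.τ_mul d c hd hc, ← mul_assoc, hεc i d hd,
      mul_assoc]
  have hεA : ε ∈ A := ⟨1, 1, Mu.one, by rw [pow_one, L.τ_one, mul_one]⟩
  have hγi : ∀ i : ℕ, K.bar (γ ^ i) = γ ^ i → q + 1 ∣ i := by
    intro i hi
    obtain ⟨μ, D⟩ := CfsgLib.SUPres.exists_fd K
    have hord : orderOf (Units.mk0 γ hγ0) = q ^ 2 - 1 := by
      cases nonempty_fintype F
      rw [orderOf_eq_card_of_forall_mem_zpowers, Nat.card_units, K.card]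
      intro u
      obtain ⟨j, hj⟩ := hγ u u.ne_zero
      exact ⟨j, Units.ext (by simpa using hj.symm)⟩
    have h1 := pow_of_fixed K hi (pow_ne_zero i hγ0)
    rw [← pow_mul] at h1
    have h2 : (Units.mk0 γ hγ0) ^ (i * (q - 1)) = 1 := Units.ext (by simpa using h1)
    have h3 := orderOf_dvd_of_pow_eq_one h2
    have h4 := K.two_le
    rw [hord, show q ^ 2 - 1 = (q + 1) * (q - 1) by
      rw [← Nat.sq_sub_sq, one_pow]] at h3
    exact Nat.dvd_of_mul_dvd_mul_right (by omega) h3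
  let μA : Fin (q + 1) × {c : F // Mu K c} → A := fun p => ⟨ε ^ p.1.1 * τ p.2.1, p.1, p.2.1, p.2.2, rfl⟩
  have hμA : Function.Bijective μA := by
    have hper : ∀ i : ℕ, ∃ c, Mu K c ∧ ε ^ i = ε ^ (i % (q + 1)) * τ c := by
      have h0 : ∃ c, Mu K c ∧ ε ^ (q + 1) = τ c := P.kernel fun B hB => by
        obtain ⟨j, rfl⟩ := hcov B hB
        rw [← mul_smul, ← pow_add, ← P.bp_zero (t := t) (map_one K.bar), hεb _ _ one_ne_zero,
          hεb _ _ one_ne_zero, mul_one, mul_one, pow_add,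
          show γ ^ (q + 1) = γ * K.bar γ by rw [K.bar_apply, ← pow_succ'],
          P.bp_smul ht (bar_self_mul γ) (mul_ne_zero hγ0 ((map_ne_zero K.bar).2 hγ0))]
      obtain ⟨c, hc, h0⟩ := h0
      intro i
      refine ⟨c ^ (i / (q + 1)), hc.pow _, ?_⟩
      rw [← L.τ_pow hc, ← h0, ← pow_mul, ← pow_add, Nat.mod_add_div]
    constructor
    · rintro ⟨i, c⟩ ⟨j, d⟩ h
      have h1 : ε ^ i.1 * τ c.1 = ε ^ j.1 * τ d.1 := congrArg Subtype.val h
      have h2 := congrArg (· • L.pt) h1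
      simp only [mul_smul, P.fix_of_inD c.2 (Or.inl rfl), P.fix_of_inD d.2 (Or.inl rfl)] at h2
      have key : ∀ {i j : ℕ}, i ≤ j → j < q + 1 → ε ^ i • L.pt = ε ^ j • L.pt → i = j := by
        intro i j hij hj he
        rw [show ε ^ j = ε ^ i * ε ^ (j - i) by rw [← pow_add, Nat.add_sub_cancel' hij], mul_smul,
          smul_left_cancel_iff, ← P.bp_zero (t := t) (map_one K.bar), hεb _ _ one_ne_zero,
          P.bp_zero (map_one K.bar)] at he
        have h3 := P.bp_pt ht he.symm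
        rw [mul_one] at h3
        have h5 := Nat.eq_zero_of_dvd_of_lt (hγi _ h3) (by omega)
        omega
      have hij : i = j := by
        rcases le_total i.1 j.1 with hl | hl
        · exact Fin.ext (key hl j.2 h2)
        · exact Fin.ext (key hl i.2 h2.symm).symm
      subst hij
      refine Prod.ext rfl (Subtype.ext ?_)
      have h3 : τ c.1 = τ d.1 := mul_left_cancel h1
      exact P.bor.th_inj c.2.ne d.2.ne (by rw [P.bor.th_mu _ c.2, P.bor.th_mu _ d.2, h3])
    · rintro ⟨_, i, c, hc, rfl⟩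
      obtain ⟨d, hd, he⟩ := hper i
      refine ⟨(⟨i % (q + 1), Nat.mod_lt _ (by omega)⟩, ⟨d * c, hd.mul hc⟩), Subtype.ext ?_⟩
      show ε ^ (i % (q + 1)) * τ (d * c) = ε ^ i * τ c
      rw [he, ← L.τ_mul d c hd hc, mul_assoc]
  have hAcard : Nat.card A = (q + 1) * (q + 1) := by
    rw [← Nat.card_congr (Equiv.ofBijective μA hμA), Nat.card_prod, Nat.card_fin, card_mu K]
  let U : SubMulAction A (G ⧸ L.Hg) :=
    { carrier := {B | ¬ P.InD B}
      smul_mem' := fun g B hB hgB => hB (by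
        have h1 := P.inD_smul (hAcomm _ (A.inv_mem g.2)) hgB
        rwa [show g • B = (g : G) • B from rfl, inv_smul_smul] at h1) }
  have hUcard : Nat.card U = (q ^ 2 - 1) * q := by
    rw [← P.card_moved]
    refine (Nat.card_congr (Equiv.ofBijective (fun x : {x : Par K // x.1.1 ≠ 0} =>
      (⟨ψ x.1 • A₀, fun h => ?_⟩ : U)) ⟨fun x y h => ?_, fun B => ?_⟩)).symm
    · rcases h with h | ⟨b, hb, h⟩
      · exact P.ψ_ne_pt _ h
      · exact x.2 (by rw [P.ψ_inj_pt h]; rfl)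
    · exact Subtype.ext (P.ψ_inj_pt (congrArg Subtype.val h))
    · obtain ⟨u, hu⟩ := P.surj B.1 fun h => B.2 (Or.inl h)
      exact ⟨⟨u, fun h => B.2 (Or.inr ⟨_, _, by rw [← eq_zp u h, hu]⟩)⟩, Subtype.ext hu⟩
  obtain ⟨B, g, hg, hg1⟩ : ∃ (B : U) (g : A), g • B = B ∧ g ≠ 1 := by
    by_contra hno
    push Not at hno
    haveI := Fintype.ofFinite (MulAction.orbitRel.Quotient A U)
    have h1 := Nat.card_congr (MulAction.selfEquivSigmaOrbitsQuotientStabilizer A U)
    rw [Nat.card_sigma] at h1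
    have h2 : ∀ B : U, Nat.card (A ⧸ MulAction.stabilizer A B) = (q + 1) * (q + 1) := fun B => by
      rw [← Subgroup.index_eq_card, show MulAction.stabilizer A B = ⊥ from
          (Subgroup.eq_bot_iff_forall _).mpr fun g hg => hno B g hg,
        Subgroup.index_bot, hAcard]
    simp only [h2, Finset.sum_const, smul_eq_mul] at h1
    rw [hUcard] at h1
    have h3 := K.two_le
    have h4 : q ^ 2 - 1 = (q - 1) * (q + 1) := by
      rw [mul_comm, ← Nat.sq_sub_sq, one_pow]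
    have h5 : q + 1 ∣ (q - 1) * q := by
      refine ⟨Finset.univ.card (α := MulAction.orbitRel.Quotient A U), ?_⟩
      refine Nat.eq_of_mul_eq_mul_left (show 0 < q + 1 by omega) ?_
      rw [← mul_assoc, ← mul_assoc, mul_comm (q + 1) (q - 1), ← h4, h1, mul_comm]
    have h6 : Nat.Coprime (q + 1) ((q - 1) * q) :=
      Nat.Coprime.mul_right (coprime_pm K).symm ((Nat.coprime_self_add_left (m := q) (n := 1)).mpr (Nat.coprime_one_left q))
    exact absurd (Nat.Coprime.eq_one_of_dvd h6 h5) (by omega)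
  obtain ⟨u, hu⟩ := L.exists_rep B.1
  have hgB : (g : G) • B.1 = B.1 := congrArg Subtype.val hg
  have hh : u⁻¹ * (g : G) * u ∈ L.Hg := L.fix_rep.mp (by rw [hu]; exact hgB)
  set h := u⁻¹ * (g : G) * u with hdef
  have hodd : Odd ((q + 1) * (q + 1)) := (q_succ_odd K).mul (q_succ_odd K)
  have hpow : h ^ ((q + 1) * (q + 1)) = 1 := by
    have h4 := conj_pow (a := u⁻¹) (b := (g : G)) (i := (q + 1) * (q + 1))
    rw [inv_inv] at h4
    rw [hdef, h4, ← Subgroup.coe_pow, ← hAcard, pow_card_eq_one', Subgroup.coe_one, mul_one,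
      inv_mul_cancel]
  have hone : ∀ {x : G}, x ^ ((q + 1) * (q + 1)) = 1 → x ^ 4 = 1 → x = 1 := fun h1 h2 =>
    orderOf_eq_one_iff.mp (Nat.dvd_one.mp (by
      have h8 : Nat.Coprime ((q + 1) * (q + 1)) 4 :=
        show Nat.Coprime _ (2 ^ 2) from Nat.Coprime.pow_right _ hodd.coprime_two_right
      rw [← h8.gcd_eq_one]
      exact Nat.dvd_gcd (orderOf_dvd_of_pow_eq_one h1) (orderOf_dvd_of_pow_eq_one h2)))
  have hC : h ∈ L.Cg := by
    refine L.ρ_fix (h := ⟨h, hh⟩) (b := zone K) ?_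
    have h3 : L.ρ ⟨h, hh⟩ = 1 := orderOf_eq_one_iff.mp (Nat.dvd_one.mp (by
      rw [← ((coprime_pm K).mul_right (coprime_pm K)).gcd_eq_one]
      refine Nat.dvd_gcd (orderOf_dvd_of_pow_eq_one (L.ρ_pow _)) (orderOf_dvd_of_pow_eq_one ?_)
      rw [← map_pow, show (⟨h, hh⟩ : L.Hg) ^ ((q + 1) * (q + 1)) = 1 from Subtype.ext hpow, map_one]))
    rw [h3, Equiv.Perm.one_apply]
  obtain ⟨x, c, hc, he⟩ := L.mem_C.mp hC
  have hc1 : c ≠ 1 := by
    rintro rfl
    rw [L.τ_one, mul_one] at he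
    have h1 := hone hpow (by rw [he]; exact L.ψ_four x)
    refine hg1 (Subtype.ext ?_)
    calc (g : G) = u * h * u⁻¹ := by rw [hdef]; group
      _ = 1 := by rw [h1, mul_one, mul_inv_cancel]
  have hq1 : (ψ x * τ c) ^ (q + 1) = 1 := by
    obtain ⟨y, hy⟩ := L.form_pow (x := x) hc (q + 1)
    rw [hc.pow_succ, L.τ_one, mul_one] at hy
    rw [hy]
    refine hone ?_ (L.ψ_four y)
    rw [← hy, ← he, ← pow_mul, mul_comm (q + 1) ((q + 1) * (q + 1)), pow_mul, hpow, one_pow]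
  obtain ⟨z, hz⟩ := L.conj_tau hc hc1 hq1
  set u' := u * ψ z with hu'
  have hu'B : u' • L.pt = B.1 := by rw [hu', mul_smul, P.ψ_pt, hu]
  have hgu : u'⁻¹ * (g : G) * u' = τ c := by
    calc u'⁻¹ * (g : G) * u' = (ψ z)⁻¹ * h * ψ z := by rw [hu', hdef]; group
      _ = τ c := by rw [he, hz]; group
  have hk : ∀ d : {d : F // Mu K d}, u' * τ d.1 * u'⁻¹ ∈ A ∧ (u' * τ d.1 * u'⁻¹) • B.1 = B.1 := by
    intro d
    have hcm : ∀ a ∈ A, u' * τ d.1 * u'⁻¹ * a = a * (u' * τ d.1 * u'⁻¹) := by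
      intro a ha
      have h1 : (g : G) * a = a * g := by
        obtain ⟨i, c', hc', rfl⟩ := ha
        obtain ⟨j, c'', hc'', hge⟩ := g.2
        rw [hge]
        have e1 : ∀ i j : ℕ, ∀ c c', Mu K c → Mu K c' →
            ε ^ i * τ c * (ε ^ j * τ c') = ε ^ (i + j) * τ (c * c') := fun i j c c' hc hc' => by
          rw [pow_add, ← L.τ_mul c c' hc hc', mul_assoc, ← mul_assoc (τ c), ← hεc j c hc]
          simp only [mul_assoc]
        rw [e1 _ _ _ _ hc'' hc', e1 _ _ _ _ hc' hc'', add_comm, mul_comm c'']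
      have h2 : u'⁻¹ * a * u' * τ c = τ c * (u'⁻¹ * a * u') := by
        rw [← hgu]
        calc u'⁻¹ * a * u' * (u'⁻¹ * (g : G) * u') = u'⁻¹ * (a * g) * u' := by group
          _ = u'⁻¹ * ((g : G) * a) * u' := by rw [h1]
          _ = u'⁻¹ * (g : G) * u' * (u'⁻¹ * a * u') := by group
      have h3 := P.comm_of_comm hc hc1 h2 d.2
      calc u' * τ d.1 * u'⁻¹ * a = u' * (τ d.1 * (u'⁻¹ * a * u')) * u'⁻¹ := by group
        _ = u' * (u'⁻¹ * a * u' * τ d.1) * u'⁻¹ := by rw [h3]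
        _ = a * (u' * τ d.1 * u'⁻¹) := by group
    refine ⟨hcent _ (fun c' hc' => hcm _ ⟨0, c', hc', by rw [pow_zero, one_mul]⟩) (hcm _ hεA), ?_⟩
    rw [← hu'B, mul_smul, mul_smul, inv_smul_smul, P.fix_of_inD d.2 (Or.inl rfl)]
  let res : {d : F // Mu K d} → Fin (q + 1) := fun d =>
    ((Equiv.ofBijective μA hμA).symm ⟨_, (hk d).1⟩).1
  have hdec : ∀ d, ∃ c', Mu K c' ∧ u' * τ d.1 * u'⁻¹ = ε ^ (res d).1 * τ c' := fun d => by
    have h1 := (Equiv.ofBijective μA hμA).apply_symm_apply ⟨_, (hk d).1⟩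
    exact ⟨_, ((Equiv.ofBijective μA hμA).symm ⟨_, (hk d).1⟩).2.2, (congrArg Subtype.val h1).symm⟩
  have hres : Function.Injective res := by
    intro d d' hdd
    obtain ⟨c₁, hc₁, e1⟩ := hdec d
    obtain ⟨c₂, hc₂, e2⟩ := hdec d'
    have f1 := (hk d).2
    have f2 := (hk d').2
    rw [e1, mul_smul] at f1
    rw [e2, mul_smul, ← hdd] at f2
    have h3 : τ (c₁ * K.bar c₂) • B.1 = B.1 := by
      have h4 : τ c₁ • B.1 = τ c₂ • B.1 := smul_left_cancel _ (f1.trans f2.symm)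
      rw [mul_comm, ← L.τ_mul _ _ hc₂.bar hc₁, mul_smul, h4, ← mul_smul,
        L.τ_mul _ _ hc₂.bar hc₂, mul_comm, show c₂ * K.bar c₂ = 1 from hc₂, L.τ_one, one_smul]
    have h5 : c₁ * K.bar c₂ = 1 := by
      by_contra hne
      exact B.2 (P.inD_of_fix (hc₁.mul hc₂.bar) hne h3)
    have h6 : c₁ = c₂ := by
      calc c₁ = c₁ * (c₂ * K.bar c₂) := by rw [show c₂ * K.bar c₂ = 1 from hc₂, mul_one]
        _ = c₁ * K.bar c₂ * c₂ := by ring
        _ = c₂ := by rw [h5, one_mul]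
    subst h6
    have h7 : u' * τ d.1 * u'⁻¹ = u' * τ d'.1 * u'⁻¹ := by rw [e1, e2, hdd]
    have h8 : τ d.1 = τ d'.1 := mul_left_cancel (mul_right_cancel h7)
    exact Subtype.ext (P.bor.th_inj d.2.ne d'.2.ne (by
      rw [P.bor.th_mu _ d.2, P.bor.th_mu _ d'.2, h8]))
  have hsur : Function.Surjective res :=
    ((Nat.bijective_iff_injective_and_card res).mpr ⟨hres, by rw [card_mu K, Nat.card_fin]⟩).2
  obtain ⟨v, hv⟩ := P.surj B.1 fun h => B.2 (Or.inl h)
  have hv1 : v.1.1 ≠ 0 := fun h => B.2 (Or.inr ⟨_, _, by rw [← eq_zp v h, hv]⟩)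
  refine ⟨v, hv1, fun r hr => ?_⟩
  obtain ⟨n, c₀, hc₀, hen⟩ : ∃ (n : ℕ) (c : F), Mu K c ∧ e ⟨r, hr⟩ = ε ^ n * τ c := by
    obtain ⟨i, hi⟩ := hγ _ (root_fixed ht hr).1
    obtain ⟨c', hc', he'⟩ := P.kernel (g := (ε ^ i)⁻¹ * e ⟨r, hr⟩) fun B hB => by
      obtain ⟨j, rfl⟩ := hcov B hB
      rw [mul_smul, inv_smul_eq_iff, ← P.bp_zero (t := t) (map_one K.bar), hεb j 1 one_ne_zero,
        heb _ _ (mul_ne_zero (pow_ne_zero j hγ0) one_ne_zero),
        hεb i _ (mul_ne_zero (pow_ne_zero j hγ0) one_ne_zero)]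
      simp only [hi]
    exact ⟨i, c', hc', by rw [← he', mul_inv_cancel_left]⟩
  obtain ⟨⟨i, c₁, hc₁⟩, hic⟩ := hμA.2 ⟨e ⟨r, hr⟩, n, c₀, hc₀, hen⟩
  have her : ε ^ i.1 * τ c₁ = e ⟨r, hr⟩ := congrArg Subtype.val hic
  obtain ⟨d, hd⟩ := hsur i
  obtain ⟨c₂, hc₂, hdd⟩ := hdec d
  rw [hd] at hdd
  have hfix := (hk d).2
  rw [hdd] at hfix
  have hee : e ⟨r, hr⟩ * τ (K.bar c₁ * c₂) = ε ^ i.1 * τ c₂ := by
    rw [← her, mul_assoc, L.τ_mul _ _ hc₁ (hc₁.bar.mul hc₂), ← mul_assoc c₁,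
      show c₁ * K.bar c₁ = 1 from hc₁, one_mul]
  set c' := K.bar c₁ * c₂
  have hc' : Mu K c' := hc₁.bar.mul hc₂
  rw [← hee, hec _ c' hc', mul_smul, ← hv] at hfix
  have hne : pmul K (zp K (r + 1) (real_add_one hr)) v ≠ pone K := fun h => hv1 (by
    simpa using congrArg (fun x : Par K => x.1.1) h)
  rw [hev _ v hne, ← P.bor.th_mu c' hc', P.th_act hc'.ne] at hfix
  have hf := P.ψ_inj_pt hfix
  set y := P.fM (pmul K (zp K (r + 1) (real_add_one hr)) v)
  have h1 := congrArg (fun x : Par K => x.1.1) hf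
  have h2 := congrArg (fun x : Par K => x.1.2) hf
  simp only [scl_fst, scl_snd, pmul_fst, pmul_snd, zp_fst, zp_snd, zero_add, zero_mul, add_zero,
    show c' * K.bar c' = 1 from hc', one_mul, hsb ⟨r, hr⟩, hss ⟨r, hr⟩] at h1 h2
  refine ⟨K.bar c' / s ⟨r, hr⟩, ?_, ?_, ?_⟩
  · rw [map_div₀, K.bar_bar, hsb, ← hss ⟨r, hr⟩]
    field_simp [hs0 ⟨r, hr⟩]
    have hcc : c' * K.bar c' = 1 := hc'
    linear_combination hcc
  · have hcc : c' * K.bar c' = 1 := hc'
    have h3 : y.1.1 * (c' * s ⟨r, hr⟩) = v.1.1 := by linear_combination h1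
    field_simp [hs0 ⟨r, hr⟩]
    linear_combination K.bar c' * h3 - y.1.1 * s ⟨r, hr⟩ * hcc
  · linear_combination h2 - r * two_eq (F := F)

end Pair

end CfsgLib.UThreeCent
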