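import Cfsg.Agent.Lib.UThreeCent.Borel

/-!
# Involution centralisers of `PGU₃(2^m)`: double transitivity and the map of the swapping involution
-/

set_option autoImplicit false
set_option linter.unusedSectionVars false

namespace CfsgLib.UThreeCent

open CfsgLib.ClassicalAut (Unitary.Conj)
open CfsgLib.Classical.URoot (Par pmul pinv pone)

variable {F : Type*} [Field F] [Finite F] [CharP F 2] {q : ℕ} {K : Unitary.Conj F q}
  {G : Type*} [Group G] [Finite G] {ψ : Par K → G} {τ : F → G}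

/-- The torus of the normaliser. -/
structure Loc.Bor (L : Loc K ψ τ) (th : F → G) : Prop where
  th_mul : ∀ l m, l ≠ 0 → m ≠ 0 → th l * th m = th (l * m)
  th_conj : ∀ l, l ≠ 0 → ∀ x, th l * ψ x * (th l)⁻¹ = ψ (scl K l x)
  th_mu : ∀ c, Mu K c → th c = τ c
  decomp : ∀ h ∈ L.Hg, ∃ x l, l ≠ 0 ∧ h = ψ x * th l

theorem Loc.exists_bor (L : Loc K ψ τ) : ∃ th : F → G, L.Bor th := by
  obtain ⟨th, h1, h2, h3, h4⟩ := L.exists_torus
  exact ⟨th, h1, h2, h3, h4⟩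

namespace Loc.Bor

variable {L : Loc K ψ τ} {th : F → G} (B : L.Bor th)

include B

theorem th_one : th 1 = 1 := by rw [B.th_mu 1 Mu.one, L.τ_one]

theorem th_inv {l : F} (hl : l ≠ 0) : (th l)⁻¹ = th l⁻¹ :=
  inv_eq_of_mul_eq_one_right (by rw [B.th_mul _ _ hl (inv_ne_zero hl), mul_inv_cancel₀ hl, B.th_one])

theorem th_pow {l : F} (hl : l ≠ 0) (n : ℕ) : th l ^ n = th (l ^ n) := by
  induction n with
  | zero => rw [pow_zero, pow_zero, B.th_one]
  | succ k ih => rw [pow_succ, ih, B.th_mul _ _ (pow_ne_zero k hl) hl, pow_succ]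

theorem th_ψ {l : F} (hl : l ≠ 0) (x : Par K) : th l * ψ x = ψ (scl K l x) * th l := by
  rw [← B.th_conj l hl x, inv_mul_cancel_right]

theorem th_mem {l : F} (hl : l ≠ 0) : th l ∈ L.Hg := L.mem_H_of fun x => ⟨_, B.th_conj l hl x⟩

theorem th_comm {l m : F} (hl : l ≠ 0) (hm : m ≠ 0) : th l * th m = th m * th l := by
  rw [B.th_mul _ _ hl hm, B.th_mul _ _ hm hl, mul_comm]

theorem form_inj {x y : Par K} {l m : F} (hl : l ≠ 0) (hm : m ≠ 0)
    (h : ψ x * th l = ψ y * th m) : x = y ∧ l = m := by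
  obtain ⟨e, he⟩ := exists_par K (1 : F)
  set z : Par K := ⟨(1, e), he⟩
  have h1 : ψ (pmul K x (scl K l z)) = ψ (pmul K (pmul K y (scl K m z)) (pmul K (pinv K y) x)) := by
    refine mul_right_cancel (b := th l) ?_
    rw [← L.ψ_mul, ← L.ψ_mul, ← L.ψ_mul, ← L.ψ_mul, ← L.ψ_inv, mul_assoc (ψ x), ← B.th_ψ hl,
      ← mul_assoc, h, mul_assoc, B.th_ψ hm, mul_assoc, mul_assoc, mul_assoc]
    rw [h, inv_mul_cancel_left]
  have h2 := congrArg (fun p : Par K => p.1.1) (L.ψ_inj h1)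
  simp only [pmul_fst, scl_fst, pinv_fst] at h2
  have h3 : l = m := by
    rw [show z.1.1 = 1 from rfl, mul_one, mul_one] at h2
    linear_combination h2 + y.1.1 * two_eq (F := F)
  subst h3
  exact ⟨L.ψ_inj (mul_right_cancel h), rfl⟩

theorem th_inj {l m : F} (hl : l ≠ 0) (hm : m ≠ 0) (h : th l = th m) : l = m :=
  (B.form_inj (x := pone K) (y := pone K) hl hm (by rw [h])).2

theorem form_pow {l : F} (hl : l ≠ 0) (x : Par K) (n : ℕ) :
    ∃ y, (ψ x * th l) ^ n = ψ y * th (l ^ n) := by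
  induction n with
  | zero => exact ⟨pone K, by rw [pow_zero, pow_zero, L.ψ_one, B.th_one, one_mul]⟩
  | succ k ih =>
    obtain ⟨y, hy⟩ := ih
    refine ⟨pmul K y (scl K (l ^ k) x), ?_⟩
    rw [pow_succ, hy, mul_assoc, ← mul_assoc (th _), B.th_ψ (pow_ne_zero k hl), mul_assoc,
      B.th_mul _ _ (pow_ne_zero k hl) hl, ← mul_assoc, L.ψ_mul, pow_succ]

theorem ρ_th {l : F} (hl : l ≠ 0) (b : Zs K) :
    (L.ρ ⟨th l, B.th_mem hl⟩ b).1 = l * K.bar l * b.1 := by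
  have h := (L.zc_spec ⟨th l, B.th_mem hl⟩ b).symm.trans (B.th_conj l hl _)
  rw [scl_zp] at h
  simpa [L.ρ_apply] using congrArg (fun y : Par K => y.1.2) (L.ψ_inj h)

end Loc.Bor

theorem fixed_of_pow (K : Unitary.Conj F q) {m : F} (h : m ^ (q - 1) = 1) : K.bar m = m := by
  have h2 := K.two_le
  rw [K.bar_apply]
  calc m ^ q = m ^ (q - 1) * m := by rw [← pow_succ, show q - 1 + 1 = q by omega]
    _ = m := by rw [h, one_mul]

theorem pow_of_fixed (K : Unitary.Conj F q) {m : F} (h : K.bar m = m) (h0 : m ≠ 0) :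
    m ^ (q - 1) = 1 := by
  have h2 := K.two_le
  rw [K.bar_apply] at h
  refine mul_right_cancel₀ h0 ?_
  rw [one_mul, ← pow_succ, show q - 1 + 1 = q by omega, h]

theorem eq_of_sq {a b : F} (h : a * a = b * b) : a = b :=
  eq_of_add_eq_zero (mul_self_eq_zero.mp (by rw [CharTwo.add_mul_self, h, CharTwo.add_self_eq_zero]))

namespace Loc

variable (L : Loc K ψ τ)

include L

/-- An involution inverting an element of odd order fixes none of its fixed points. -/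
theorem inverted_no_fix {e t : G} {B : G ⧸ L.Hg} {n : ℕ} (hn : Odd n) (he : e ^ n = 1)
    (ht : t * t = 1) (hte : t * e * t = e⁻¹) (hB : e • B = B) (htB : t • B = B) : e = 1 := by
  obtain ⟨g, rfl⟩ := L.exists_rep B
  set d := g⁻¹ * e * g with hd
  set s := g⁻¹ * t * g with hs
  have hss : s * s = 1 := by
    rw [hs]
    calc g⁻¹ * t * g * (g⁻¹ * t * g) = g⁻¹ * (t * t) * g := by group
      _ = 1 := by rw [ht, mul_one, inv_mul_cancel]
  obtain ⟨x, hx⟩ := L.inv_P hss (L.fix_rep.mp htB)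
  obtain ⟨y, hy⟩ := L.H_conj (L.fix_rep.mp hB) x
  have hsd : s * d * s = d⁻¹ := by
    rw [hs, hd]
    calc g⁻¹ * t * g * (g⁻¹ * e * g) * (g⁻¹ * t * g) = g⁻¹ * (t * e * t) * g := by group
      _ = (g⁻¹ * e * g)⁻¹ := by rw [hte]; group
  have h2 : d * d = ψ (pmul K y x) := by
    rw [← L.ψ_mul, ← hy, ← hx]
    have h3 : s * d⁻¹ * s = d := by
      rw [← hsd]
      calc s * (s * d * s) * s = s * s * d * (s * s) := by group
        _ = d := by rw [hss, one_mul, mul_one]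
    calc d * d = d * (s * d⁻¹ * s) := by rw [h3]
      _ = d * s * d⁻¹ * s := by group
  have h5 : d ^ 8 = 1 := by
    rw [show d ^ 8 = (d * d) ^ 4 by rw [← pow_two, ← pow_mul], h2]
    exact L.ψ_four _
  have h6 : d ^ n = 1 := by
    rw [hd]
    have h4 := conj_pow (a := g⁻¹) (b := e) (i := n)
    rw [inv_inv] at h4
    rw [h4, he, mul_one, inv_mul_cancel]
  have h7 : d = 1 := orderOf_eq_one_iff.mp (Nat.dvd_one.mp (by
    have h8 : Nat.Coprime n 8 :=
      show Nat.Coprime n (2 ^ 3) from Nat.Coprime.pow_right _ hn.coprime_two_right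
    rw [← h8.gcd_eq_one]
    exact Nat.dvd_gcd (orderOf_dvd_of_pow_eq_one h6) (orderOf_dvd_of_pow_eq_one h5)))
  calc e = g * d * g⁻¹ := by rw [hd]; group
    _ = 1 := by rw [h7, mul_one, mul_inv_cancel]

theorem q_sub_odd : Odd (q - 1) := by
  have := L.three_le
  exact Nat.Even.sub_odd (by omega) (q_even K) odd_one

variable {th : F → G}

/-- Swapper-inverted elements fixing the base point. -/
theorem exists_inverted (Bo : L.Bor th) {A : G ⧸ L.Hg} (hA : A ≠ L.pt) (t : L.Sw A) {l : F}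
    (hl : l ≠ 0) (hlb : K.bar l = l) :
    ∃ x, (ψ x * th l) • A = A ∧ t.1 * (ψ x * th l) * t.1 = (ψ x * th l)⁻¹ := by
  obtain ⟨d, hd, hdA, hdi, hdv⟩ :=
    L.sw_surj hA t ⟨l * l, by rw [map_mul, hlb], mul_ne_zero hl hl⟩
  obtain ⟨x, m, hm, rfl⟩ := Bo.decomp d hd
  set e := (ψ x * th m) ^ (q - 1) with he
  have he1 : e = 1 := by
    refine L.no_inverted hA (L.ρ_fix (h := ⟨e, L.Hg.pow_mem hd _⟩) (b := zone K) ?_)
      (MulAction.mem_stabilizer_iff.mp (pow_mem (MulAction.mem_stabilizer_iff.mpr hdA) (q - 1)))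
      t.2.1 ?_
    · rw [show (⟨e, L.Hg.pow_mem hd _⟩ : L.Hg) = ⟨_, hd⟩ ^ (q - 1) from rfl, map_pow, L.ρ_pow,
        Equiv.Perm.one_apply]
    · have h4 := conj_pow (a := t.1) (b := ψ x * th m) (i := q - 1)
      rw [inv_eq_of_mul_eq_one_right t.2.1, hdi, inv_pow] at h4
      exact h4.symm
  obtain ⟨y, hy⟩ := Bo.form_pow hm x (q - 1)
  have hm1 : m ^ (q - 1) = 1 := by
    refine ((Bo.form_inj (x := pone K) (y := y) one_ne_zero (pow_ne_zero _ hm) ?_).2).symm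
    rw [← hy, ← he, he1, L.ψ_one, Bo.th_one, one_mul]
  have hmb := fixed_of_pow K hm1
  have hml : m = l := by
    have h2 : L.ρ ⟨ψ x * th m, hd⟩ = L.ρ ⟨th m, Bo.th_mem hm⟩ := by
      rw [show (⟨ψ x * th m, hd⟩ : L.Hg) = ⟨ψ x, L.ψ_mem_H x⟩ * ⟨th m, Bo.th_mem hm⟩ from rfl,
        map_mul, L.ρ_C (h := ⟨ψ x, _⟩) (L.ψ_mem_C x), one_mul]
    have h3 := Bo.ρ_th hm (zone K)
    rw [← h2, hdv, hmb, show (zone K).1 = 1 from rfl, mul_one] at h3
    exact eq_of_sq h3.symm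
  subst hml
  exact ⟨x, hdA, hdi⟩

end Loc

/-- Two points with a normalised swapping involution. -/
structure Pair (L : Loc K ψ τ) (th : F → G) (w : G) (A₀ : G ⧸ L.Hg) : Prop where
  bor : L.Bor th
  ne : A₀ ≠ L.pt
  surj : ∀ A, A ≠ L.pt → ∃ u, ψ u • A₀ = A
  fix : ∀ l, l ≠ 0 → th l • A₀ = A₀
  w_sq : w * w = 1
  w_pt : w • L.pt = A₀
  w_th : ∀ l, l ≠ 0 → w * th l * w = th (K.bar l)⁻¹
  w_ez : w • (ψ (ez K) • A₀) = ψ (ez K) • A₀

namespace Loc

variable (L : Loc K ψ τ)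

include L

/-- The fixed points of a torus element, and transitivity of the root group on the others. -/
theorem exists_base {th : F → G} (Bo : L.Bor th) : ∃ A₀ : G ⧸ L.Hg, A₀ ≠ L.pt ∧
    (∀ A, A ≠ L.pt → ∃ u, ψ u • A₀ = A) ∧ ∀ m, m ≠ 0 → th m • A₀ = A₀ := by
  classical
  obtain ⟨l, hl0, hlb, hl1⟩ : ∃ l : F, l ≠ 0 ∧ K.bar l = l ∧ l ≠ 1 := by
    have h1 := L.card_zs
    have := L.three_le
    haveI : Nontrivial (Zs K) := Finite.one_lt_card_iff_nontrivial.mp (by omega)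
    obtain ⟨b, hb⟩ := exists_ne (zone K)
    exact ⟨b.1, b.2.2, b.2.1, fun h => hb (Subtype.ext h)⟩
  set d₀ := th l with hd0
  have hd₀H : d₀ ∈ L.Hg := Bo.th_mem hl0
  have hd₀ne : d₀ ≠ 1 := fun h => hl1 (Bo.th_inj hl0 one_ne_zero (h.trans Bo.th_one.symm))
  have hd₀pow : d₀ ^ (q - 1) = 1 := by
    rw [hd0, Bo.th_pow hl0, pow_of_fixed K hlb hl0, Bo.th_one]
  let ad : Par K → Par K := fun u => pmul K u (scl K l (pinv K u))
  have hinj : Function.Injective ad := fun u v h => by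
    have hfix : ∀ z : Par K, scl K l z = z → z = pone K := fun z hz => by
      have h1 := congrArg (fun p : Par K => p.1.1) hz
      have h2 := congrArg (fun p : Par K => p.1.2) hz
      simp only [scl_fst, scl_snd, hlb] at h1 h2
      refine par_ext ?_ ?_
      · by_contra hz1
        exact hl1 (mul_right_cancel₀ hz1 (by rw [one_mul]; exact h1))
      · by_contra hz2
        exact hl1 (eq_of_sq (mul_right_cancel₀ hz2 (by rw [one_mul, one_mul]; exact h2)))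
    have h1 : scl K l (pmul K (pinv K v) u) = pmul K (pinv K v) u := by
      rw [scl_pmul]
      have h2 : pmul K (pinv K v) (ad u) = pmul K (pinv K v) (ad v) := by rw [h]
      simp only [ad] at h2
      rw [← pmul_assoc, ← pmul_assoc, pinv_pmul, one_pmul] at h2
      rw [← h2, pmul_assoc, scl_pinv, pinv_pmul, pmul_one]
    have h3 := hfix _ h1
    calc u = pmul K v (pmul K (pinv K v) u) := by rw [← pmul_assoc, pmul_pinv, one_pmul]
      _ = v := by rw [h3, pmul_one]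
  have hsurj := Finite.injective_iff_surjective.mp hinj
  have hconj : ∀ u, ψ u * d₀ * (ψ u)⁻¹ = ψ (ad u) * d₀ := fun u => by
    rw [L.ψ_inv, mul_assoc, hd0, Bo.th_ψ hl0, ← mul_assoc, L.ψ_mul]
  have hswap : ∀ A, A ≠ L.pt → ∃ u t, t * t = 1 ∧ t • L.pt = (ψ u)⁻¹ • A ∧
      t * d₀ * t = d₀⁻¹ ∧ d₀ • ((ψ u)⁻¹ • A) = (ψ u)⁻¹ • A := by
    intro A hA
    obtain ⟨t⟩ := L.exists_sw hA
    obtain ⟨x, hxA, hxi⟩ := L.exists_inverted Bo hA t hl0 hlb
    obtain ⟨u, rfl⟩ := hsurj x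
    rw [← hd0, ← hconj] at hxA hxi
    refine ⟨u, (ψ u)⁻¹ * t.1 * ψ u, ?_, ?_, ?_, ?_⟩
    · calc (ψ u)⁻¹ * t.1 * ψ u * ((ψ u)⁻¹ * t.1 * ψ u) = (ψ u)⁻¹ * (t.1 * t.1) * ψ u := by group
        _ = 1 := by rw [t.2.1, mul_one, inv_mul_cancel]
    · rw [mul_smul, mul_smul, L.fix_pt.mpr (L.ψ_mem_H u), t.2.2]
    · calc (ψ u)⁻¹ * t.1 * ψ u * d₀ * ((ψ u)⁻¹ * t.1 * ψ u)
          = (ψ u)⁻¹ * (t.1 * (ψ u * d₀ * (ψ u)⁻¹) * t.1) * ψ u := by group
        _ = d₀⁻¹ := by rw [hxi]; group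
    · rw [← mul_smul, show d₀ * (ψ u)⁻¹ = (ψ u)⁻¹ * (ψ u * d₀ * (ψ u)⁻¹) by group, mul_smul, hxA]
  have hΦ : ∀ A, A ≠ L.pt → d₀ • A = A → ∃ t, t * t = 1 ∧ t • L.pt = A ∧ t * d₀ * t = d₀⁻¹ := by
    intro A hA hdA
    obtain ⟨u, t, ht, htA, hti, hdu⟩ := hswap A hA
    have h1 : ψ (ad u) • A = A := by
      have h2 : (ψ u * d₀ * (ψ u)⁻¹) • A = A := by rw [mul_smul, mul_smul, hdu, smul_inv_smul]
      rwa [hconj, mul_smul, hdA] at h2
    have h3 : ad u = ad (pone K) := by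
      rw [L.stabP hA h1]
      exact par_ext (by simp [ad]) (by simp [ad])
    rw [hinj h3, L.ψ_one, inv_one, one_smul] at htA
    exact ⟨t, ht, htA, hti⟩
  set R := Subgroup.centralizer ({d₀} : Set G) with hR
  have hmul : ∀ t t' : G, t * t = 1 → t * d₀ * t = d₀⁻¹ → t' * t' = 1 → t' * d₀ * t' = d₀⁻¹ →
      t * t' ∈ R := by
    intro t t' ht hti ht' hti'
    refine Subgroup.mem_centralizer_singleton_iff.mpr ?_
    have h1 : t' * d₀ = d₀⁻¹ * t' := by
      rw [← hti', mul_assoc (t' * d₀), ht', mul_one]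
    have h2 : t * d₀⁻¹ = d₀ * t := by
      rw [← hti]
      calc t * (t * d₀ * t) = t * t * d₀ * t := by group
        _ = d₀ * t := by rw [ht, one_mul]
    rw [mul_assoc, h1, ← mul_assoc, h2, mul_assoc]
  haveI : Fact (Nat.Prime 2) := ⟨Nat.prime_two⟩
  have hRodd : ¬ 2 ∣ Nat.card R := fun hd => by
    obtain ⟨s, hs⟩ := exists_prime_orderOf_dvd_card' (G := R) 2 hd
    have hs1 : (s : G) * s = 1 := by
      rw [← Subgroup.coe_mul, ← pow_two, ← hs, pow_orderOf_eq_one, Subgroup.coe_one]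
    have hs2 : (s : G) ≠ 1 := fun h => by
      have h' : s = 1 := Subtype.ext h
      rw [h', orderOf_one] at hs
      omega
    obtain ⟨g, hg⟩ := L.one_class _ hs1 hs2
    have hcs := Subgroup.mem_centralizer_singleton_iff.mp s.2
    have hC : g⁻¹ * d₀ * g ∈ L.Cg := by
      refine Subgroup.mem_centralizer_singleton_iff.mpr ?_
      calc g⁻¹ * d₀ * g * ψ (ez K) = g⁻¹ * (d₀ * (g * ψ (ez K) * g⁻¹)) * g := by group
        _ = g⁻¹ * ((g * ψ (ez K) * g⁻¹) * d₀) * g := by rw [hg, hcs]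
        _ = ψ (ez K) * (g⁻¹ * d₀ * g) := by group
    have hp : (g⁻¹ * d₀ * g) ^ (q - 1) = 1 := by
      have h4 := conj_pow (a := g⁻¹) (b := d₀) (i := q - 1)
      rw [inv_inv] at h4
      rw [h4, hd₀pow, mul_one, inv_mul_cancel]
    obtain ⟨x, c, hc, he⟩ := L.mem_C.mp hC
    rw [he] at hp
    obtain ⟨y, hy⟩ := L.form_pow (x := x) hc (q - 1)
    rw [hp] at hy
    have h1 : c ^ (q - 1) = 1 :=
      ((L.form_inj (x := pone K) Mu.one (hc.pow _) (by rw [← hy, L.ψ_one, L.τ_one, one_mul])).2).symm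
    have hc1 : c = 1 := orderOf_eq_one_iff.mp (Nat.dvd_one.mp (by
      rw [← (coprime_pm K).gcd_eq_one]
      exact Nat.dvd_gcd (orderOf_dvd_of_pow_eq_one h1) (orderOf_dvd_of_pow_eq_one hc.pow_succ)))
    subst hc1
    rw [L.τ_one, mul_one] at hp he
    have hx : ψ x = 1 := orderOf_eq_one_iff.mp (Nat.dvd_one.mp (by
      have h8 : Nat.Coprime (q - 1) 4 :=
        show Nat.Coprime (q - 1) (2 ^ 2) from Nat.Coprime.pow_right _ L.q_sub_odd.coprime_two_right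
      rw [← h8.gcd_eq_one]
      exact Nat.dvd_gcd (orderOf_dvd_of_pow_eq_one hp) (orderOf_dvd_of_pow_eq_one (L.ψ_four x))))
    rw [hx] at he
    exact hd₀ne (calc d₀ = g * (g⁻¹ * d₀ * g) * g⁻¹ := by group
      _ = 1 := by rw [he, mul_one, mul_inv_cancel])
  have hptfix : ∀ r ∈ R, r • L.pt = L.pt := by
    intro r hr
    by_contra hne
    have hRfix : ∀ r' ∈ R, ∀ B : G ⧸ L.Hg, d₀ • B = B → d₀ • (r' • B) = r' • B := fun r' hr' B hB => by
      rw [← mul_smul, ← Subgroup.mem_centralizer_singleton_iff.mp hr', mul_smul, hB]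
    have hd0pt := L.fix_pt.mpr hd₀H
    obtain ⟨t, ht, htA, hti⟩ := hΦ _ hne (hRfix r hr _ hd0pt)
    have hcover : ∀ B : {B : G ⧸ L.Hg // d₀ • B = B}, B.1 ∈ MulAction.orbit R L.pt := by
      rintro ⟨B, hB⟩
      by_cases hBp : B = L.pt
      · rw [show (⟨B, hB⟩ : {B : G ⧸ L.Hg // d₀ • B = B}).1 = L.pt from hBp]
        exact MulAction.mem_orbit_self _
      · obtain ⟨t', ht', htB, hti'⟩ := hΦ B hBp hB
        refine ⟨⟨t' * t * r, R.mul_mem (hmul t' t ht' hti' ht hti) hr⟩, ?_⟩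
        show (t' * t * r) • L.pt = B
        rw [mul_smul, ← htA, ← mul_smul, mul_assoc, ht, mul_one, htB]
    let e : {B : G ⧸ L.Hg // d₀ • B = B} ≃ MulAction.orbit R L.pt :=
      { toFun := fun B => ⟨B.1, hcover B⟩
        invFun := fun B => ⟨B.1, by
          obtain ⟨⟨r', hr'⟩, hB⟩ := B.2
          rw [← hB]
          exact hRfix r' hr' _ hd0pt⟩
        left_inv := fun B => rfl
        right_inv := fun B => rfl }
    haveI : Fintype {B : G ⧸ L.Hg // d₀ • B = B} := Fintype.ofFinite _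
    have hodd : ¬ 2 ∣ Fintype.card {B : G ⧸ L.Hg // d₀ • B = B} := by
      rw [← Nat.card_eq_fintype_card, Nat.card_congr e, Nat.card_coe_set_eq,
        ← MulAction.index_stabilizer]
      exact fun h => hRodd (h.trans (Subgroup.index_dvd_card _))
    have htS : ∀ B : {B : G ⧸ L.Hg // d₀ • B = B}, d₀ • (t • B.1) = t • B.1 := fun B => by
      have h1 : d₀ * t = t * d₀⁻¹ := by rw [← hti, ← mul_assoc, ← mul_assoc, ht, one_mul]
      rw [← mul_smul, h1, mul_smul, inv_smul_eq_iff.mpr B.2.symm]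
    let π : Equiv.Perm {B : G ⧸ L.Hg // d₀ • B = B} :=
      { toFun := fun B => ⟨t • B.1, htS B⟩
        invFun := fun B => ⟨t • B.1, htS B⟩
        left_inv := fun B => Subtype.ext (by show t • t • B.1 = B.1; rw [← mul_smul, ht, one_smul])
        right_inv := fun B => Subtype.ext (by show t • t • B.1 = B.1; rw [← mul_smul, ht, one_smul]) }
    obtain ⟨B, hB⟩ := Equiv.Perm.exists_fixed_point_of_prime hodd (n := 1) (σ := π) (by
      refine Equiv.ext fun B => Subtype.ext ?_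
      show t • t • B.1 = B.1
      rw [← mul_smul, ht, one_smul])
    exact hd₀ne (L.inverted_no_fix L.q_sub_odd hd₀pow ht hti B.2 (congrArg Subtype.val hB))
  have huniq : ∀ A B, A ≠ L.pt → B ≠ L.pt → d₀ • A = A → d₀ • B = B → A = B := by
    intro A B hA hB hdA hdB
    obtain ⟨t, ht, htA, hti⟩ := hΦ A hA hdA
    obtain ⟨t', ht', htB, hti'⟩ := hΦ B hB hdB
    have h1 := hptfix _ (hmul t t' ht hti ht' hti')
    rw [mul_smul, htB] at h1
    rw [← htA, ← h1, ← mul_smul, ht, one_smul]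
  obtain ⟨A, hA⟩ := L.exists_other
  obtain ⟨u₀, -, -, -, -, hd⟩ := hswap A hA
  have hne : ∀ u, ∀ A, A ≠ L.pt → (ψ u)⁻¹ • A ≠ L.pt := fun u A hA h => hA (by
    rw [inv_smul_eq_iff, L.fix_pt.mpr (L.ψ_mem_H u)] at h
    exact h)
  refine ⟨_, hne u₀ A hA, fun A' hA' => ?_, fun m hm => ?_⟩
  · obtain ⟨u, -, -, -, -, hd'⟩ := hswap A' hA'
    refine ⟨u, ?_⟩
    rw [huniq _ _ (hne u₀ A hA) (hne u A' hA') hd hd', smul_inv_smul]
  · refine huniq _ _ (fun h => hne u₀ A hA ?_) (hne u₀ A hA) ?_ hd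
    · rw [← inv_smul_eq_iff.mpr h.symm, inv_smul_eq_iff, L.fix_pt.mpr (Bo.th_mem hm)]
    · rw [← mul_smul, hd0, Bo.th_comm hl0 hm, mul_smul, ← hd0, hd]

theorem exists_pair : ∃ (th : F → G) (w : G) (A₀ : G ⧸ L.Hg), Pair L th w A₀ := by
  obtain ⟨th, Bo⟩ := L.exists_bor
  obtain ⟨A₀, hne, hsurj, hfix⟩ := L.exists_base Bo
  have hstab : ∀ (x : Par K) (l : F), l ≠ 0 → (ψ x * th l) • A₀ = A₀ → x = pone K := fun x l hl h => by
    rw [mul_smul, hfix l hl] at h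
    exact L.stabP hne h
  have hwth : ∀ t : L.Sw A₀, ∀ l, l ≠ 0 → t.1 * th l * t.1 = th (K.bar l)⁻¹ := by
    intro t l hl
    obtain ⟨r, hr, hrr⟩ := exists_sqrt K (bar_self_mul (K := K) l)
    have hr0 : r ≠ 0 := fun h => mul_ne_zero hl ((map_ne_zero K.bar).2 hl) (by rw [← hrr, h, mul_zero])
    have hc : Mu K (l / r) := by
      rw [Mu, map_div₀, hr, div_mul_div_comm, hrr, div_self (mul_ne_zero hl ((map_ne_zero K.bar).2 hl))]
    obtain ⟨x, hxA, hxi⟩ := L.exists_inverted Bo hne t hr0 hr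
    rw [hstab x r hr0 hxA, L.ψ_one, one_mul] at hxi
    have hcomm : t.1 * th (l / r) * t.1 = th (l / r) := by
      rw [Bo.th_mu _ hc]
      refine L.swap_comm hne (L.τ_mem_C hc) ?_ t.2.1 t.2.2
      rw [← Bo.th_mu _ hc]
      exact hfix _ hc.ne
    calc t.1 * th l * t.1 = t.1 * (th (l / r) * th r) * t.1 := by
          rw [Bo.th_mul _ _ hc.ne hr0, div_mul_cancel₀ l hr0]
      _ = t.1 * th (l / r) * 1 * th r * t.1 := by group
      _ = t.1 * th (l / r) * (t.1 * t.1) * th r * t.1 := by rw [t.2.1]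
      _ = (t.1 * th (l / r) * t.1) * (t.1 * th r * t.1) := by group
      _ = th (K.bar l)⁻¹ := by
        rw [hcomm, hxi, Bo.th_inv hr0, Bo.th_mul _ _ hc.ne (inv_ne_zero hr0)]
        congr 1
        refine eq_inv_of_mul_eq_one_left ?_
        field_simp
        rw [pow_two, hrr]
  obtain ⟨t⟩ := L.exists_sw hne
  obtain ⟨B, hB⟩ := L.exists_inv_fix t.2.1 (L.sw_ne hne t)
  have hBne : B ≠ L.pt := fun h => hne (by
    rw [h, t.2.2] at hB
    exact hB)
  obtain ⟨u, rfl⟩ := hsurj B hBne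
  obtain ⟨c, hc, hc1, -⟩ := exists_mu_gen K
  have hu : u.1.1 = 0 := by
    have htc : t.1 * τ c = τ c * t.1 := by
      have h2 := L.swap_comm hne (L.τ_mem_C hc) (by rw [← Bo.th_mu _ hc]; exact hfix _ hc.ne)
        t.2.1 t.2.2
      conv_rhs => rw [← h2, mul_assoc, t.2.1, mul_one]
    have h3 : t.1 • (τ c • (ψ u • A₀)) = τ c • (ψ u • A₀) := by
      rw [← mul_smul, htc, mul_smul, hB]
    have h4 := L.inv_unique t.2.1 (L.sw_ne hne t) h3 hB
    rw [← mul_smul, L.τ_ψ hc, mul_smul, ← Bo.th_mu _ hc, hfix _ hc.ne] at h4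
    have h5 : pmul K (pinv K u) (scl K c u) = pone K := by
      refine L.stabP hne ?_
      rw [← L.ψ_mul, ← L.ψ_inv, mul_smul, h4, inv_smul_smul]
    have h6 := congrArg (fun p : Par K => p.1.1) h5
    simp only [pmul_fst, pinv_fst, scl_fst, pone_fst] at h6
    by_contra hu0
    exact hc1 (mul_right_cancel₀ hu0 (by rw [one_mul]; exact (eq_of_add_eq_zero h6).symm))
  have hu2 : u.1.2 ≠ 0 := snd_ne u fun h => by
    rw [h, L.ψ_one, one_smul] at hB
    exact hne (by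
      have h2 := congrArg (t.1 • ·) t.2.2
      simp only [← mul_smul, t.2.1, one_smul] at h2
      rw [h2, hB])
  obtain ⟨m, hm, hmm⟩ := exists_sqrt K (n := u.1.2⁻¹) (by rw [map_inv₀, bar_snd_of_fst u hu])
  have hm0 : m ≠ 0 := fun h => inv_ne_zero hu2 (by rw [← hmm, h, mul_zero])
  have hw : (th m * t.1 * (th m)⁻¹) * (th m * t.1 * (th m)⁻¹) = 1 := by
    calc th m * t.1 * (th m)⁻¹ * (th m * t.1 * (th m)⁻¹) = th m * (t.1 * t.1) * (th m)⁻¹ := by group
      _ = 1 := by rw [t.2.1, mul_one, mul_inv_cancel]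
  have hwp : (th m * t.1 * (th m)⁻¹) • L.pt = A₀ := by
    rw [mul_smul, mul_smul, L.fix_pt.mpr (L.Hg.inv_mem (Bo.th_mem hm0)), t.2.2, hfix m hm0]
  refine ⟨th, _, A₀, Bo, hne, hsurj, hfix, hw, hwp, hwth ⟨_, hw, hwp⟩, ?_⟩
  have he : ψ (ez K) • A₀ = th m • ψ u • A₀ := by
    rw [← mul_smul (th m), Bo.th_ψ hm0, mul_smul, hfix m hm0]
    congr 2
    refine par_ext (by simp [hu]) ?_
    simp only [ez_snd, scl_snd, hm, hmm]
    rw [inv_mul_cancel₀ hu2]
  rw [he, mul_smul, mul_smul, inv_smul_smul, hB]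

end Loc

namespace Pair

variable {L : Loc K ψ τ} {th : F → G} {w : G} {A₀ : G ⧸ L.Hg} (P : Pair L th w A₀)

include P

theorem ψ_inj_pt {x y : Par K} (h : ψ x • A₀ = ψ y • A₀) : x = y := by
  have h1 : pmul K (pinv K y) x = pone K :=
    L.stabP P.ne (by rw [← L.ψ_mul, ← L.ψ_inv, mul_smul, h, inv_smul_smul])
  calc x = pmul K y (pmul K (pinv K y) x) := by rw [← pmul_assoc, pmul_pinv, one_pmul]
    _ = y := by rw [h1, pmul_one]

theorem ψ_ne_pt (x : Par K) : ψ x • A₀ ≠ L.pt := fun h => P.ne (by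
  rw [← inv_smul_smul (ψ x) A₀, h]
  exact L.fix_pt.mpr (L.Hg.inv_mem (L.ψ_mem_H x)))

theorem w_A₀ : w • A₀ = L.pt := by rw [← P.w_pt, ← mul_smul, P.w_sq, one_smul]

theorem ψ_pt (x : Par K) : ψ x • L.pt = L.pt := L.fix_pt.mpr (L.ψ_mem_H x)

theorem w_w (A : G ⧸ L.Hg) : w • w • A = A := by rw [← mul_smul, P.w_sq, one_smul]

theorem th_act {l : F} (hl : l ≠ 0) (x : Par K) : th l • ψ x • A₀ = ψ (scl K l x) • A₀ := by
  rw [← mul_smul, P.bor.th_ψ hl, mul_smul, P.fix l hl]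

theorem ψ_act (x y : Par K) : ψ x • ψ y • A₀ = ψ (pmul K x y) • A₀ := by rw [← mul_smul, L.ψ_mul]

theorem stab_two {g : G} (h1 : g • L.pt = L.pt) (h2 : g • A₀ = A₀) :
    ∃ l, l ≠ 0 ∧ g = th l := by
  obtain ⟨x, l, hl, rfl⟩ := P.bor.decomp g (L.fix_pt.mp h1)
  rw [mul_smul, P.fix l hl] at h2
  exact ⟨l, hl, by rw [L.stabP P.ne h2, L.ψ_one, one_mul]⟩

theorem w_img {x : Par K} (hx : x ≠ pone K) : w • ψ x • A₀ ≠ L.pt := fun h => hx (P.ψ_inj_pt (by
  rw [L.ψ_one, one_smul, ← P.w_w (ψ x • A₀), h, P.w_pt]))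

/-- The map of the swapping involution on parameters. -/
noncomputable def fM (P : Pair L th w A₀) (x : Par K) : Par K :=
  letI := Classical.propDecidable (x ≠ pone K)
  if h : x ≠ pone K then (P.surj _ (P.w_img h)).choose else x

theorem f_spec {x : Par K} (hx : x ≠ pone K) : w • ψ x • A₀ = ψ (P.fM x) • A₀ := by
  rw [fM, dif_pos hx]
  exact (P.surj _ (P.w_img hx)).choose_spec.symm

theorem f_eq {x y : Par K} (hx : x ≠ pone K) (h : w • ψ x • A₀ = ψ y • A₀) : P.fM x = y :=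
  P.ψ_inj_pt ((P.f_spec hx).symm.trans h)

theorem f_one : P.fM (pone K) = pone K := by rw [fM, dif_neg (not_not.mpr rfl)]

theorem f_ne {x : Par K} (hx : x ≠ pone K) : P.fM x ≠ pone K := fun h => by
  have h1 := P.f_spec hx
  rw [h, L.ψ_one, one_smul] at h1
  exact P.ψ_ne_pt x (MulAction.injective w (h1.trans P.w_pt.symm))

theorem f_f (x : Par K) : P.fM (P.fM x) = x := by
  by_cases hx : x = pone K
  · rw [hx, P.f_one, P.f_one]
  · exact P.f_eq (P.f_ne hx) (by rw [← P.f_spec hx, P.w_w])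

theorem f_scl {l : F} (hl : l ≠ 0) {x : Par K} (hx : x ≠ pone K) :
    P.fM (scl K l x) = scl K (K.bar l)⁻¹ (P.fM x) := by
  refine P.f_eq (fun h => hx ((scl_eq_pone hl).mp h)) ?_
  have hl' : (K.bar l)⁻¹ ≠ 0 := inv_ne_zero ((map_ne_zero K.bar).2 hl)
  rw [← P.th_act hl, ← P.th_act hl', ← P.f_spec hx, ← P.w_th l hl, mul_smul, mul_smul, P.w_w]

theorem f_zp {b : F} (hb : K.bar b = b) (h0 : b ≠ 0) :
    P.fM (zp K b hb) = zp K b⁻¹ (by rw [map_inv₀, hb]) := by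
  obtain ⟨m, hm, hmm⟩ := exists_sqrt K hb
  have hm0 : m ≠ 0 := fun h => h0 (by rw [← hmm, h, mul_zero])
  have he : ez K ≠ pone K := fun h => by simpa using congrArg (fun y : Par K => y.1.2) h
  have h1 : zp K b hb = scl K m (ez K) := par_ext (by simp) (by simp [hm, hmm])
  rw [h1, P.f_scl hm0 he, P.f_eq he P.w_ez]
  exact par_ext (by simp) (by simp [hm, ← hmm])

/-- The companion of `fM`. -/
noncomputable def gM (P : Pair L th w A₀) (x : Par K) : Par K := pinv K (P.fM (pinv K x))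

/-- The element equation for central parameters. -/
theorem eq_one_elem {z : F} (hz : K.bar z = z) (h0 : z ≠ 0) :
    w * ψ (zp K z hz) * w =
      ψ (zp K z⁻¹ (by rw [map_inv₀, hz])) * th z⁻¹ * w * ψ (zp K z⁻¹ (by rw [map_inv₀, hz])) := by
  set u := zp K z⁻¹ (by rw [map_inv₀, hz]) with hu
  have hzi : z⁻¹ ≠ 0 := inv_ne_zero h0
  set R := ψ u * th z⁻¹ * w * ψ u with hR
  have huu : ψ u * ψ u = 1 := L.ψ_sq.mpr rfl
  have hmid : th z⁻¹ * w * (th z⁻¹ * w) = 1 := by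
    rw [show th z⁻¹ * w * (th z⁻¹ * w) = th z⁻¹ * (w * th z⁻¹ * w) by group, P.w_th _ hzi,
      map_inv₀, hz, inv_inv, P.bor.th_mul _ _ hzi h0, inv_mul_cancel₀ h0, P.bor.th_one]
  have hRR : R * R = 1 := by
    rw [hR]
    calc ψ u * th z⁻¹ * w * ψ u * (ψ u * th z⁻¹ * w * ψ u)
        = ψ u * th z⁻¹ * w * (ψ u * ψ u) * th z⁻¹ * w * ψ u := by group
      _ = ψ u * (th z⁻¹ * w * (th z⁻¹ * w)) * ψ u := by rw [huu]; group
      _ = 1 := by rw [hmid, mul_one, huu]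
  have hune : u ≠ pone K := fun h => hzi (by simpa [hu] using congrArg (fun y : Par K => y.1.2) h)
  have hRA : R • A₀ = A₀ := by
    rw [hR, mul_smul, mul_smul, mul_smul, P.f_spec hune, P.th_act hzi, P.ψ_act]
    conv_rhs => rw [← one_smul G A₀, ← L.ψ_one]
    congr 2
    rw [hu, P.f_zp _ hzi]
    refine par_ext (by simp) ?_
    simp only [pmul_snd, scl_snd, zp_snd, zp_fst, scl_fst, inv_inv, map_inv₀, hz, map_mul,
      mul_zero, map_zero, add_zero]
    rw [mul_assoc, inv_mul_cancel₀ h0, mul_one, CharTwo.add_self_eq_zero]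
    rfl
  have hs : w * R * w * (w * R * w) = 1 := by
    calc w * R * w * (w * R * w) = w * R * (w * w) * R * w := by group
      _ = 1 := by rw [P.w_sq, mul_one, mul_assoc w, hRR, mul_one, P.w_sq]
  obtain ⟨x, hx⟩ := L.inv_P hs
    (L.fix_pt.mp (by rw [mul_smul, mul_smul, P.w_pt, hRA, P.w_A₀]))
  have hxz : x = zp K z hz := P.ψ_inj_pt (by
    rw [← hx, mul_smul, mul_smul, P.w_A₀, hR, mul_smul, mul_smul, mul_smul, P.ψ_pt, P.w_pt,
      P.fix _ hzi, P.f_spec hune, hu, P.f_zp _ hzi]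
    congr 2
    exact par_ext rfl (inv_inv z))
  rw [← hxz, ← hx]
  calc w * (w * R * w) * w = w * w * R * (w * w) := by group
    _ = R := by rw [P.w_sq, one_mul, mul_one]

/-- The first functional equation. -/
theorem eq_one {z : F} (hz : K.bar z = z) (h0 : z ≠ 0) {v : Par K} (hv : v ≠ pone K)
    (hv' : v ≠ zp K z⁻¹ (by rw [map_inv₀, hz])) :
    pmul K (zp K z hz) (P.fM v) ≠ pone K ∧ P.fM (pmul K (zp K z hz) (P.fM v)) =
      pmul K (zp K z⁻¹ (by rw [map_inv₀, hz]))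
        (scl K z⁻¹ (P.fM (pmul K (zp K z⁻¹ (by rw [map_inv₀, hz])) v))) := by
  set u := zp K z⁻¹ (by rw [map_inv₀, hz]) with hu
  have hne : pmul K u v ≠ pone K := fun h => hv' (by
    have huu : pmul K u u = pone K := par_ext (by simp [hu]) (by simp [hu, CharTwo.add_self_eq_zero])
    calc v = pmul K (pmul K u u) v := by rw [huu, one_pmul]
      _ = u := by rw [pmul_assoc, h, pmul_one])
  have h1 : w • ψ (pmul K (zp K z hz) (P.fM v)) • A₀ =
      ψ (pmul K u (scl K z⁻¹ (P.fM (pmul K u v)))) • A₀ := by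
    rw [← P.ψ_act, ← P.f_spec hv, ← mul_smul, ← mul_smul, P.eq_one_elem hz h0, mul_smul, mul_smul,
      mul_smul, P.ψ_act, P.f_spec hne, P.th_act (inv_ne_zero h0), P.ψ_act]
  have h2 : pmul K (zp K z hz) (P.fM v) ≠ pone K := fun h => by
    rw [h, L.ψ_one, one_smul, P.w_A₀] at h1
    exact P.ψ_ne_pt _ h1.symm
  exact ⟨h2, P.f_eq h2 h1⟩

/-- The second functional equation. -/
theorem eq_two {x : Par K} (hx : x ≠ pone K) : ∃ a, a ≠ 0 ∧ ∀ v, v ≠ pone K →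
    pmul K (P.gM x) v ≠ pone K → pmul K x (P.fM v) ≠ pone K ∧
      P.fM (pmul K x (P.fM v)) = pmul K (P.fM x) (scl K a (P.fM (pmul K (P.gM x) v))) := by
  have hxi : pinv K x ≠ pone K := fun h => hx (by
    rw [← pmul_one x, ← h, pmul_pinv, h])
  have hg : (ψ (P.gM x))⁻¹ • A₀ = w • ψ (pinv K x) • A₀ := by
    rw [P.f_spec hxi, L.ψ_inv, gM]
    congr 2
    refine par_ext (by simp) ?_
    simp [K.bar_bar]
  obtain ⟨a, ha, hk⟩ := P.stab_two (g := (ψ (P.fM x))⁻¹ * w * ψ x * w * (ψ (P.gM x))⁻¹ * w) (by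
      rw [mul_smul, mul_smul, mul_smul, mul_smul, mul_smul, P.w_pt, hg, P.w_w, P.ψ_act, pmul_pinv,
        L.ψ_one, one_smul, P.w_A₀, inv_smul_eq_iff, P.ψ_pt]) (by
      rw [mul_smul, mul_smul, mul_smul, mul_smul, mul_smul, P.w_A₀,
        L.fix_pt.mpr (L.Hg.inv_mem (L.ψ_mem_H _)), P.w_pt, P.f_spec hx, inv_smul_smul])
  have helt : w * ψ x * w = ψ (P.fM x) * th a * w * ψ (P.gM x) := by
    rw [← hk]
    calc w * ψ x * w = w * ψ x * w * (ψ (P.gM x))⁻¹ * 1 * ψ (P.gM x) := by group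
      _ = w * ψ x * w * (ψ (P.gM x))⁻¹ * (w * w) * ψ (P.gM x) := by rw [P.w_sq]
      _ = _ := by group
  refine ⟨a, ha, fun v hv hv' => ?_⟩
  have h1 : w • ψ (pmul K x (P.fM v)) • A₀ =
      ψ (pmul K (P.fM x) (scl K a (P.fM (pmul K (P.gM x) v)))) • A₀ := by
    rw [← P.ψ_act, ← P.f_spec hv, ← mul_smul, ← mul_smul, helt, mul_smul, mul_smul, mul_smul,
      P.ψ_act, P.f_spec hv', P.th_act ha, P.ψ_act]
  have h2 : pmul K x (P.fM v) ≠ pone K := fun h => by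
    rw [h, L.ψ_one, one_smul, P.w_A₀] at h1
    exact P.ψ_ne_pt _ h1.symm
  exact ⟨h2, P.f_eq h2 h1⟩

/-- The triangle map. -/
noncomputable def triM (P : Pair L th w A₀) (x : Par K) : Par K := pinv K (P.fM x)

theorem tri_cube {x : Par K} (hx : x ≠ pone K) :
    ∃ a, a ≠ 0 ∧ P.triM (P.triM (P.triM x)) = scl K a x := by
  have hne : ∀ {y : Par K}, y ≠ pone K → P.triM y ≠ pone K := fun {y} hy h => P.f_ne hy (by
    rw [← pmul_one (P.fM y), ← h, triM, pmul_pinv, ← triM, h])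
  have g1 : ∀ y, y ≠ pone K → ((ψ (P.fM y))⁻¹ * w) • L.pt = ψ (P.triM y) • A₀ ∧
      ((ψ (P.fM y))⁻¹ * w) • A₀ = L.pt ∧ ((ψ (P.fM y))⁻¹ * w) • ψ y • A₀ = A₀ := fun y hy => by
    refine ⟨by rw [mul_smul, P.w_pt, L.ψ_inv]; rfl, ?_, ?_⟩
    · rw [mul_smul, P.w_A₀, inv_smul_eq_iff, P.ψ_pt]
    · rw [mul_smul, P.f_spec hy, inv_smul_smul]
  obtain ⟨a1, b1, c1⟩ := g1 x hx
  obtain ⟨a2, b2, c2⟩ := g1 _ (hne hx)
  obtain ⟨a3, b3, c3⟩ := g1 _ (hne (hne hx))
  obtain ⟨a, ha, hk⟩ := P.stab_two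
    (g := (ψ (P.fM (P.triM (P.triM x))))⁻¹ * w * ((ψ (P.fM (P.triM x)))⁻¹ * w) *
      ((ψ (P.fM x))⁻¹ * w)) (by rw [mul_smul, a1, mul_smul, c2, b3]) (by
      rw [mul_smul, b1, mul_smul, a2, c3])
  refine ⟨a, ha, P.ψ_inj_pt ?_⟩
  rw [← P.th_act ha, ← hk, mul_smul, c1, mul_smul, b2, a3]

end Pair

end CfsgLib.UThreeCent
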